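import Groth.Agent.Lib.PicPn.TrivialFibres
import Groth.Agent.Lib.AlgEquiv22.Closed
import Groth.Agent.Lib.TensorMod.Dual
import Groth.Agent.Lib.CBC10.Point

/-!
The locus of trivial fibres of an invertible module, and degree zero base change on it.
-/

set_option autoImplicit false
set_option linter.style.haveILetI false
set_option backward.isDefEq.respectTransparency false

universe u

open CategoryTheory CategoryTheory.Limits AlgebraicGeometry TopologicalSpace Opposite Groth.Agent.ModLimH13

noncomputable section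

namespace Groth.Agent.PicPn

open Groth.Agent.M1 Groth.Agent.P1Split

variable {X S : Scheme.{u}} (f : X ⟶ S)

theorem geometricallyConnected_of_irreducible [GeometricallyIrreducible f] : GeometricallyConnected f :=
  ⟨fun K _ y Z fst snd hsq => by
    haveI : IrreducibleSpace Z := GeometricallyIrreducible.geometrically_irreducibleSpace _ _ _ hsq
    infer_instance⟩

/-- On an integral proper fibre, trivial means sections of the module and of its inverse. -/
theorem fibre_trivial_iff [IsProper f] (y : S) [IsIntegral (f.fiber y)] {L D : X.Modules} (hL : PicF.IsInvertible L)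
    (hD : PicF.IsInvertible D) (e : CohB1.tensorMod L D ≅ Coh.structureModule X) :
    Nonempty ((Scheme.Modules.pullback (f.fiberι y)).obj L ≅ Coh.structureModule (f.fiber y)) ↔
      Nontrivial (CohIII.fiberH f L y 0) ∧ Nontrivial (CohIII.fiberH f D y 0) := by
  haveI : IsProper (f.fiberToSpecResidueField y) :=
    MorphismProperty.of_isPullback (P := @IsProper)
      (IsPullback.of_hasPullback f (S.fromSpecResidueField y)) inferInstance
  exact AlgEquiv22.isTriv_iff_sections (k := S.residueField y) (f.fiberToSpecResidueField y)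
    (PicLoc.isInvertible_pullback _ hL) (PicLoc.isInvertible_pullback _ hD)
    ⟨(M2.pullTensorIso (f.fiberι y) L D).symm ≪≫ (Scheme.Modules.pullback (f.fiberι y)).mapIso e ≪≫
      Twist.pullbackUnitIso _⟩

/-- The locus of trivial fibres is closed. -/
theorem isClosed_trivial [IsProper f] [Flat f] [IsLocallyNoetherian S] (hint : ∀ y : S, IsIntegral (f.fiber y))
    {L : X.Modules} (hL : PicF.IsInvertible L) :
    IsClosed {y : S | Nonempty ((Scheme.Modules.pullback (f.fiberι y)).obj L ≅ Coh.structureModule (f.fiber y))} := by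
  obtain ⟨D, hD, ⟨e⟩⟩ := M2.exists_inverse hL
  have h : {y : S | Nonempty ((Scheme.Modules.pullback (f.fiberι y)).obj L ≅ Coh.structureModule (f.fiber y))} =
      {y | Nontrivial (CohIII.fiberH f L y 0)} ∩ {y | Nontrivial (CohIII.fiberH f D y 0)} := Set.ext fun y =>
    haveI := hint y
    fibre_trivial_iff f y hL hD e
  rw [h]
  exact (AlgEquiv22.isClosed_nontrivial_fiber f hL).inter (AlgEquiv22.isClosed_nontrivial_fiber f hD)

/-- Modules pulled back from the base have generators over opens of the base. -/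
theorem exists_gen_of_pullback {L : X.Modules} {N : S.Modules} (hN : PicF.IsInvertible N)
    (φ : (Scheme.Modules.pullback f).obj N ≅ L) (y : S) :
    ∃ (U : S.Opens) (σ : Γ(L, f ⁻¹ᵁ U)), y ∈ U ∧ Twist.IsGen L (f ⁻¹ᵁ U) σ := by
  obtain ⟨U, g, hy, hg⟩ := ProjUP.exists_isGen_of_invertible hN y
  exact ⟨U, φ.hom.app (f ⁻¹ᵁ U) (M2.pullSec f N g), hy, ProjDeg17.isGen_app_iso φ (hg.pullback f)⟩

/-- A generator over a neighbourhood makes base change to the point surjective. -/
theorem epi_bc0_of_gen (s : S) (hb : Function.Bijective (f.fiberToSpecResidueField s).appTop)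
    {L : X.Modules} {U : S.Opens} (σ : Γ(L, f ⁻¹ᵁ U)) (hsU : s ∈ U) (hσ : Twist.IsGen L (f ⁻¹ᵁ U) σ) :
    Epi (CohBC.bc0 f (S.fromSpecResidueField s) (f.fiberToSpecResidueField s) (f.fiberι s) (f.fiber_fac s) L) := by
  haveI : Subsingleton (Spec (S.residueField s)) := inferInstanceAs (Subsingleton (PrimeSpectrum (S.residueField s)))
  let g := S.fromSpecResidueField s
  let f' := f.fiberToSpecResidueField s
  let ι := f.fiberι s
  let pF := (Scheme.Modules.pushforward f).obj L
  have eTop : (⊤ : (Spec (S.residueField s)).Opens) ≤ g ⁻¹ᵁ U := fun z _ => by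
    show g z ∈ U
    rw [S.fromSpecResidueField_apply]
    exact hsU
  have eU : f' ⁻¹ᵁ ⊤ ≤ ι ⁻¹ᵁ (f ⁻¹ᵁ U) := CBC10.le_preimage_of_le (w := f.fiber_fac s) eTop
  let u : Γ((Scheme.Modules.pullback ι).obj L, f' ⁻¹ᵁ ⊤) := res' ι L eU σ
  have hu : Twist.IsGen _ (f' ⁻¹ᵁ ⊤) u := (hσ.pullback ι).mres eU
  rw [CBC10.epi_iff_surjective_top]
  intro t
  let t' : Γ((Scheme.Modules.pullback ι).obj L, f' ⁻¹ᵁ ⊤) := t
  obtain ⟨r, hr⟩ := (hu (f' ⁻¹ᵁ ⊤) le_rfl).2 t'
  obtain ⟨c, hc⟩ := hb.2 r
  simp only [mres_id] at hr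
  refine ⟨c • res' g pF eTop (show Γ(pF, U) from σ), ?_⟩
  rw [Scheme.Modules.Hom.app_smul]
  refine (congrArg (c • ·) (CBC10.bc0_res' (f.fiber_fac s) L eTop σ)).trans ?_
  show f'.app ⊤ c • u = t'
  rw [show f'.app ⊤ c = r from hc, hr]

end Groth.Agent.PicPn
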