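import Groth.Agent.Lib.PicPn.TrivialLocus

/-!
Functions of a flat proper family whose fibres have only constant functions, after any base change.
-/

set_option autoImplicit false
set_option linter.style.haveILetI false
set_option backward.isDefEq.respectTransparency false

universe u

open CategoryTheory CategoryTheory.Limits AlgebraicGeometry TopologicalSpace Opposite Groth.Agent.ModLimH13

noncomputable section

namespace Groth.Agent.PicPn

open Groth.Agent.M1 Groth.Agent.P1Split

theorem bijective_app_baseChange {X Y : Scheme.{u}} (f : X ⟶ Y) [IsProper f] [Flat f] [IsLocallyNoetherian Y]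
    (h0 : ∀ y : Y, Module.finrank (Y.residueField y) Γ(f.fiber y, ⊤) = 1) {T : Scheme.{u}} (g : T ⟶ Y)
    (W : T.Opens) : Function.Bijective ((pullback.snd f g).app W) := by
  have hb := bijective_app_of_h0 f h0
  let O := Coh.structureModule X
  have hO : PicF.IsInvertible O := PicLoc.isInvertible_structureModule X
  haveI hOq : Coh.IsQCoh O := M1.isQCoh_structureModule X
  have hfp : CohB1.IsFP O := M1.isFP_of_isFinLocFree (M2.isFinLocFree_of_isInvertible hO)
  have hfl : FlatMod.IsFlatOver f O :=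
    DPerf.isFlatOver_of_isFlat f (KFlat.Sch.isFlat_of_isFinLocFree (M2.isFinLocFree_of_isInvertible hO))
  have hmod : ∀ y : Y, ∃ (V : Y.Opens) (M : CBC10.Model f O V), y ∈ V ∧ M.FlatCok (-1) := fun y => by
    obtain ⟨V₀, -, M₀, hy₀⟩ := CBC10.exists_model_at f O hfp hfl (U := ⊤) (s := y) trivial
    have hepi := epi_bc0_of_gen f y (bijective_fiber_appTop_of_finrank f y (h0 y))
      (one (X := X) (f ⁻¹ᵁ V₀)) hy₀ (isGen_one _)
    obtain ⟨V', -, M', hy', hflat⟩ := CBC10.exists_flat_model M₀ hy₀ [-1] (by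
      simpa using (M₀.epi_fibre0_iff hy₀).1 hepi)
    exact ⟨V', M', hy', hflat _ (by simp)⟩
  let f' := pullback.snd f g
  let gT := pullback.fst f g
  have h : IsPullback gT f' f g := IsPullback.of_hasPullback _ _
  haveI hβ : IsIso (CohBC.bc0 f g f' gT h.w O) := CBC10.isIso_bc0 h O fun z => by
    obtain ⟨V, M, hy, hM⟩ := hmod (g z)
    exact ⟨V, M, hy, hM⟩
  let pF := (Scheme.Modules.pushforward f).obj O
  let σ : Γ(pF, ⊤) := one (X := X) (f ⁻¹ᵁ ⊤)
  have hσ : Twist.IsGen pF ⊤ σ := fun V hV =>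
    (isGen_one (X := X) (f ⁻¹ᵁ ⊤) (f ⁻¹ᵁ V) (f.preimage_mono hV)).comp (hb V)
  have eW : W ≤ g ⁻¹ᵁ ⊤ := le_top
  have h1 : Twist.IsGen _ W (res' g pF eW σ) := (hσ.pullback g).mres eW
  have h2 := ProjDeg17.isGen_app_iso (asIso (CohBC.bc0 f g f' gT h.w O)) h1
  rw [asIso_hom, CBC10.bc0_res'] at h2
  have eU : f' ⁻¹ᵁ W ≤ gT ⁻¹ᵁ (f ⁻¹ᵁ ⊤) := CBC10.le_preimage_of_le (w := h.w) eW
  let v : Γ((Scheme.Modules.pullback gT).obj O, f' ⁻¹ᵁ W) := res' gT O eU (one (X := X) (f ⁻¹ᵁ ⊤))
  have hv : Twist.IsGen _ (f' ⁻¹ᵁ W) v := ((isGen_one (X := X) (f ⁻¹ᵁ ⊤)).pullback gT).mres eU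
  have h3 : Function.Bijective fun r : Γ(T, W) => f'.app W r • v := by
    have := h2 W le_rfl
    simp only [mres_id] at this
    exact this
  have h4 : Function.Bijective fun r : Γ(pullback f g, f' ⁻¹ᵁ W) => r • v := by
    have := hv (f' ⁻¹ᵁ W) le_rfl
    simp only [mres_id] at this
    exact this
  exact (Function.Bijective.of_comp_iff' h4 _).1 h3

theorem finrank_fiber_eq_one_of_bijective {X Y : Scheme.{u}} (f : X ⟶ Y) (y : Y)
    (hb : Function.Bijective (f.fiberToSpecResidueField y).appTop) :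
    Module.finrank (Y.residueField y) Γ(f.fiber y, ⊤) = 1 := by
  have hb' : Function.Bijective (algebraMap (Y.residueField y) Γ(f.fiber y, ⊤)) :=
    hb.comp ((ConcreteCategory.isIso_iff_bijective (Scheme.ΓSpecIso (Y.residueField y)).inv).1 inferInstance)
  rw [← (LinearEquiv.ofBijective (Algebra.linearMap (Y.residueField y) Γ(f.fiber y, ⊤)) hb').finrank_eq,
    Module.finrank_self]

end Groth.Agent.PicPn
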