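import Groth.Agent.Lib.PicPn.TrivialLocus
import Groth.Agent.Lib.FlatCx.Rank
import Groth.Agent.Lib.AbRigid.Image
import Mathlib.AlgebraicGeometry.AlgClosed.Basic

/-!
Invertible modules trivial on the closed fibres of a family with integral fibres.
-/

set_option autoImplicit false
set_option linter.style.haveILetI false
set_option backward.isDefEq.respectTransparency false

universe u

open CategoryTheory CategoryTheory.Limits AlgebraicGeometry TopologicalSpace Opposite

noncomputable section

namespace Groth.Agent.PicPn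

variable {X Y : Scheme.{u}} (f : X ⟶ Y)

/-- The rank of fibre sections is upper semicontinuous. -/
theorem isClosed_le_fiberRank [IsProper f] [Flat f] [IsLocallyNoetherian Y]
    {L : X.Modules} (hL : PicF.IsInvertible L) (n : ℕ) : IsClosed {y : Y | n ≤ CohIII.fiberRank f L 0 y} := by
  have hF : Coh.IsCoh L := CubeField.isCoh_of_isInvertible hL
  haveI := hF.1
  have hfl : FlatMod.IsFlatOver f L := DPerf.isFlatOver_of_isFlat f (M := L) fun x =>
    KFlat.Sch.isFlat_of_isFinLocFree (M2.isFinLocFree_of_isInvertible hL) x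
  rw [← isOpen_compl_iff, isOpen_iff_forall_mem_open]
  intro y hy
  obtain ⟨U, hU, hyU, -⟩ := exists_isAffineOpen_mem_and_subset (X := Y) (x := y) (U := ⊤) trivial
  obtain ⟨P, hfin, hflat, -, -, hP⟩ := CBC10.exists_complexOn hF hfl hU
  haveI := hfin
  haveI := hflat
  haveI : IsNoetherianRing Γ(Y, U) := IsLocallyNoetherian.component_noetherian ⟨U, hU⟩
  refine ⟨hU.fromSpec '' (CohIII.dRank P (-((0 : ℕ) : ℤ)) ⁻¹' Set.Iio n), ?_,
    hU.fromSpec.isOpenEmbedding.isOpenMap _
      (upperSemicontinuous_iff_isOpen_preimage.1 (FlatCxLib.upperSemicontinuous_dRank P _) n),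
    ⟨hU.primeIdealOf ⟨y, hyU⟩, ?_, hU.fromSpec_primeIdealOf _⟩⟩
  · rintro _ ⟨p, hp, rfl⟩
    have hzU : hU.fromSpec p ∈ U := by rw [← SetLike.mem_coe, ← hU.range_fromSpec]; exact ⟨p, rfl⟩
    have hz : hU.primeIdealOf ⟨hU.fromSpec p, hzU⟩ = p :=
      hU.fromSpec.isOpenEmbedding.injective (hU.fromSpec_primeIdealOf _)
    simp only [Set.mem_compl_iff, Set.mem_setOf_eq, not_le]
    rw [hP.fiberRank_eq hzU hF.1 0, hz]
    exact hp
  · show _ < n
    rw [← hP.fiberRank_eq hyU hF.1 0]
    exact not_le.1 hy

/-- Functions on the fibres of a proper flat family with integral fibres over an algebraically closed field. -/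
theorem finrank_fiber_of_isIntegral {k : Type u} [Field k] [IsAlgClosed k] (g : Y ⟶ Spec (CommRingCat.of k))
    [LocallyOfFiniteType g] [IsProper f] [Flat f] (hint : ∀ y : Y, IsIntegral (f.fiber y)) (y : Y) :
    Module.finrank (Y.residueField y) Γ(f.fiber y, ⊤) = 1 := by
  haveI : IsLocallyNoetherian Y := LocallyOfFiniteType.isLocallyNoetherian g
  haveI : JacobsonSpace Y := LocallyOfFiniteType.jacobsonSpace g
  haveI hfinite : ∀ z : Y, Module.Finite (Y.residueField z) Γ(f.fiber z, ⊤) := fun z => by
    haveI := hint z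
    haveI : IsProper (f.fiberToSpecResidueField z) :=
      MorphismProperty.of_isPullback (P := @IsProper)
        (IsPullback.of_hasPullback f (Y.fromSpecResidueField z)) inferInstance
    have h : (algebraMap (Y.residueField z) Γ(f.fiber z, ⊤)).Finite :=
      (finite_appTop_of_universallyClosed (Y.residueField z) (f.fiberToSpecResidueField z)).comp
        (RingHom.Finite.of_surjective _
          ((ConcreteCategory.isIso_iff_bijective (Scheme.ΓSpecIso (Y.residueField z)).inv).1 inferInstance).2)
    exact RingHom.finite_algebraMap.1 h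
  have hrk : ∀ z : Y, CohIII.fiberRank f (Coh.structureModule X) 0 z =
      Module.finrank (Y.residueField z) Γ(f.fiber z, ⊤) := fun z =>
    fiberRank_zero_eq_finrank f _ z (Twist.pullbackUnitIso _)
  haveI := hint y
  haveI : Nontrivial Γ(f.fiber y, ⊤) := inferInstance
  refine le_antisymm ?_ (Module.finrank_pos (R := Y.residueField y) (M := Γ(f.fiber y, ⊤)))
  by_contra hlt
  obtain ⟨z, hz, hzc⟩ := nonempty_inter_closedPoints
    (Z := {z : Y | 2 ≤ CohIII.fiberRank f (Coh.structureModule X) 0 z})
    ⟨y, show 2 ≤ CohIII.fiberRank f (Coh.structureModule X) 0 y by rw [hrk]; omega⟩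
    (isClosed_le_fiberRank f (PicLoc.isInvertible_structureModule X) 2).isLocallyClosed
  haveI := hint z
  haveI : IsAlgClosed (Y.residueField z) :=
    IsAlgClosed.of_ringEquiv k _ (residueFieldIsoBase g z hzc).commRingCatIsoToRingEquiv.symm
  haveI : Algebra.IsIntegral (Y.residueField z) Γ(f.fiber z, ⊤) := Algebra.IsIntegral.of_finite _ _
  have hb : Function.Bijective (algebraMap (Y.residueField z) Γ(f.fiber z, ⊤)) :=
    IsAlgClosed.algebraMap_bijective_of_isIntegral
  have h1 : Module.finrank (Y.residueField z) Γ(f.fiber z, ⊤) = 1 := by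
    rw [← (LinearEquiv.ofBijective (Algebra.linearMap (Y.residueField z) Γ(f.fiber z, ⊤)) hb).finrank_eq,
      Module.finrank_self]
  have hz' : 2 ≤ CohIII.fiberRank f (Coh.structureModule X) 0 z := hz
  rw [hrk, h1] at hz'
  omega

/-- Trivial on closed fibres is trivial on all fibres. -/
theorem forall_trivial_of_closedPoints [IsProper f] [Flat f] [IsLocallyNoetherian Y] [JacobsonSpace Y]
    (hint : ∀ y : Y, IsIntegral (f.fiber y)) {L : X.Modules} (hL : PicF.IsInvertible L)
    (h : ∀ y : Y, IsClosed ({y} : Set Y) →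
      Nonempty ((Scheme.Modules.pullback (f.fiberι y)).obj L ≅ Coh.structureModule (f.fiber y))) (y : Y) :
    Nonempty ((Scheme.Modules.pullback (f.fiberι y)).obj L ≅ Coh.structureModule (f.fiber y)) := by
  have hy : y ∈ closure (closedPoints Y) := by rw [closure_closedPoints]; trivial
  exact closure_minimal (fun z hz => h z hz) (isClosed_trivial f hint hL) hy

end Groth.Agent.PicPn
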