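import Groth.Agent.Lib.PicPn.Units
import Groth.Agent.Lib.Curve17.UFDTriv

/-!
Invertible modules on projective space over a factorial ring are the twists.
-/

set_option autoImplicit false

open CategoryTheory CategoryTheory.Limits AlgebraicGeometry TopologicalSpace Opposite MvPolynomial

universe u

namespace Groth.Agent.PicPn

open Groth.Agent.Twist Groth.Agent.M1

variable {n : ℕ} {R : Type u} [CommRing R]

local notation "𝒢" => CohB1.polyGrading n R
local notation "A" => MvPolynomial (Fin (n + 1)) R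
local notation "O" d:max => _root_.Twist.twist (CohB1.polyGrading n R) d

theorem valO_one (U : (Proj 𝒢).Opens) (x : Pt n R) (hx : x ∈ U) : valO (1 : Γ(Proj 𝒢, U)) x hx = 1 :=
  HomogeneousLocalization.val_one

theorem valO_ores {U V : (Proj 𝒢).Opens} (h : V ≤ U) (r : Γ(Proj 𝒢, U)) (x : Pt n R) (hx : x ∈ V) :
    valO (ores h r) x hx = valO r x (h hx) := rfl

theorem Xpow_mem (i : Fin (n + 1)) (p : ℕ) : (X i ^ p : A) ∈ CohB1.polyGrading n R p :=
  isHomogeneous_X_pow i p

theorem C_mem (c : R) : (C c : A) ∈ CohB1.polyGrading n R 0 := isHomogeneous_C _ _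

/-- The value of a section of `O(d)`. -/
noncomputable def sv {d : ℤ} {U : (Proj 𝒢).Opens} (s : Γ(O d, U)) (x : Pt n R) (hx : x ∈ U) : L n R x :=
  val (n := d) s x hx

theorem sv_ext {d : ℤ} {U : (Proj 𝒢).Opens} {s t : Γ(O d, U)}
    (h : ∀ (x : Pt n R) (hx : x ∈ U), sv s x hx = sv t x hx) : s = t :=
  sec_ext h

theorem sv_smul {d : ℤ} {U : (Proj 𝒢).Opens} (r : Γ(Proj 𝒢, U)) (s : Γ(O d, U)) (x : Pt n R) (hx : x ∈ U) :
    sv (r • s) x hx = valO r x hx * sv s x hx :=
  val_smul r s x hx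

theorem sv_mres {d : ℤ} {U V : (Proj 𝒢).Opens} (h : V ≤ U) (s : Γ(O d, U)) (x : Pt n R) (hx : x ∈ V) :
    sv (mres (O d) h s) x hx = sv s x (h hx) :=
  val_mres h s x hx

/-- The generator `b · Tᵢ ^ d` of `O(d)`. -/
theorem exists_twist_gen (i : Fin (n + 1)) (b : Rˣ) (d : ℤ) :
    ∃ q : Γ(O d, D n R i), Twist.IsGen (O d) (D n R i) q ∧
      ∀ (x : Pt n R) (hx : x ∈ D n R i), sv q x hx = ((cu x b * tv x i ^ d : (L n R x)ˣ) : L n R x) := by
  have hfr : ∀ (b : Rˣ) (d : ℤ), ∃ f : Sec (𝒜 := 𝒢) d (D n R i),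
      ∀ (x : Pt n R) (hx : x ∈ D n R i), val f x hx = ((cu x b * tv x i ^ d : (L n R x)ˣ) : L n R x) := by
    intro b d
    obtain ⟨p, q, rfl⟩ : ∃ p q : ℕ, d = (p : ℤ) - q := ⟨d.toNat, (-d).toNat, by omega⟩
    have hp : (C (b : R) * X i ^ p : A) ∈ 𝒢 p := by
      simpa using SetLike.mul_mem_graded (C_mem (n := n) (b : R))
        (Xpow_mem i p)
    refine ⟨frac 𝒢 _ hp (Xpow_mem i q) (by omega) (fun (x : Pt n R) hx => pow_notMem 𝒢 hx q), fun x hx => ?_⟩
    refine (val_frac x hx).trans ?_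
    refine (isUnit_alg (pow_notMem 𝒢 hx q : (X i : A) ^ q ∉ x.asHomogeneousIdeal)).mul_right_cancel ?_
    rw [Localization.mk_eq_mk']
    refine (IsLocalization.mk'_spec _ _ _).trans ?_
    rw [zpow_sub, zpow_natCast, zpow_natCast, map_pow, ← val_tv hx, ← Units.val_pow_eq_pow_val, ← Units.val_mul,
      mul_assoc, inv_mul_cancel_right, Units.val_mul, Units.val_pow_eq_pow_val, val_cu, val_tv hx, map_mul, map_pow]
  obtain ⟨f, hf⟩ := hfr b d
  obtain ⟨f', hf'⟩ := hfr b⁻¹ (-d)
  refine ⟨f, bijective_smul_of_inverse f f' fun x hx => ?_, hf⟩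
  rw [hf, hf', ← Units.val_mul, mul_mul_mul_comm, ← map_mul, mul_inv_cancel, ← zpow_add, add_neg_cancel, map_one,
    zpow_zero, mul_one, Units.val_one]

theorem unit_of_gens {M : (Proj 𝒢).Modules} {V : (Proj 𝒢).Opens} {a b : Γ(M, V)}
    (ha : Twist.IsGen M V a) (hb : Twist.IsGen M V b) :
    ∃ r r' : Γ(Proj 𝒢, V), r * r' = 1 ∧ r • a = b := by
  obtain ⟨r, hr⟩ := (ha V le_rfl).2 b
  obtain ⟨r', hr'⟩ := (hb V le_rfl).2 a
  simp only [mres_id] at hr hr'
  refine ⟨r, r', (ha V le_rfl).1 ?_, hr⟩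
  simp only [mres_id, one_smul]
  rw [mul_comm r r', mul_smul, hr, hr']

/-- An isomorphism carries generators to generators. -/
theorem isGen_app {M N : (Proj 𝒢).Modules} (φ : M ≅ N) {U : (Proj 𝒢).Opens} {a : Γ(M, U)}
    (ha : Twist.IsGen M U a) : Twist.IsGen N U (φ.hom.app U a) := by
  intro V hV
  have hb : Function.Bijective (φ.hom.app V) := (ConcreteCategory.isIso_iff_bijective _).1 inferInstance
  have key : (fun r : Γ(Proj 𝒢, V) => r • mres N hV (φ.hom.app U a)) =
      φ.hom.app V ∘ fun r => r • mres M hV a := funext fun r => by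
    rw [Function.comp_apply, Scheme.Modules.Hom.app_smul, app_mres]
  rw [key]
  exact hb.comp (ha V hV)

variable [IsDomain R]

theorem exists_gen [UniqueFactorizationMonoid R] {M : (Proj 𝒢).Modules} (hM : PicF.IsInvertible M)
    (i : Fin (n + 1)) : ∃ p : Γ(M, D n R i), Twist.IsGen M (D n R i) p := by
  let e₁ : MvPolynomial {j : Fin (n + 1) // j ≠ i} R ≃+* _ := ProjSpace.chartEquiv R i
  let e₂ := (Proj.basicOpenIsoAway 𝒢 (X i : A) (ProjSpace.X_mem' n R i) one_pos).commRingCatIsoToRingEquiv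
  let e : MvPolynomial {j : Fin (n + 1) // j ≠ i} R ≃+* Γ(Proj 𝒢, D n R i) := e₁.trans e₂
  have : IsDomain Γ(Proj 𝒢, D n R i) := e.symm.toMulEquiv.isDomain _
  have : UniqueFactorizationMonoid Γ(Proj 𝒢, D n R i) :=
    e.toMulEquiv.uniqueFactorizationMonoid inferInstance
  exact Curve17.exists_generator_ufd (Proj.isAffineOpen_basicOpen 𝒢 (X i : A) (ProjSpace.X_mem' n R i) one_pos)
    le_rfl fun p _ => ProjUP.exists_isGen_of_invertible hM p

/-- An invertible module trivial on the standard opens is a twist. -/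
theorem exists_iso_twist_of_gen {M : (Proj 𝒢).Modules} (p : ∀ i, Γ(M, D n R i))
    (hp : ∀ i, Twist.IsGen M (D n R i) (p i)) : ∃ d : ℤ, Nonempty (M ≅ O d) := by
  have h := fun i j => unit_of_gens ((hp i).mres (inf_le_left : D n R i ⊓ D n R j ≤ _))
    ((hp j).mres (inf_le_right : D n R i ⊓ D n R j ≤ _))
  choose r r' hrr hr using h
  have hm := fun i j => exists_unit_eq i j (r i j) (r' i j) (hrr i j)
  choose c m hcm using hm
  have hη : ∀ i j, eta n R ∈ D n R i ⊓ D n R j := fun i j => ⟨eta_mem i, eta_mem j⟩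
  have coc : ∀ i j k, c i j * c j k = c i k ∧ ev i j (m i j) + ev j k (m j k) = ev i k (m i k) := by
    intro i j k
    let V := D n R i ⊓ D n R j ⊓ D n R k
    have hij : V ≤ D n R i ⊓ D n R j := inf_le_left
    have hjk : V ≤ D n R j ⊓ D n R k := le_inf (hij.trans inf_le_right) inf_le_right
    have hik : V ≤ D n R i ⊓ D n R k := le_inf (hij.trans inf_le_left) inf_le_right
    have e : ores hjk (r j k) * ores hij (r i j) = ores hik (r i k) := by
      refine (hp i V (hij.trans inf_le_left)).1 ?_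
      show _ • mres M (hij.trans inf_le_left) (p i) = _ • mres M (hij.trans inf_le_left) (p i)
      have a1 := congrArg (mres M hij) (hr i j)
      have a2 := congrArg (mres M hjk) (hr j k)
      have a3 := congrArg (mres M hik) (hr i k)
      simp only [mres_smul, mres_mres] at a1 a2 a3
      rw [mul_smul, a1, a2, a3]
    have hV : eta n R ∈ V := ⟨hη i j, eta_mem k⟩
    have e' := congrArg (fun s : Γ(Proj 𝒢, V) => valO s (eta n R) hV) e
    have e'' : valO (r j k) (eta n R) (hη j k) * valO (r i j) (eta n R) (hη i j) =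
        valO (r i k) (eta n R) (hη i k) := (HomogeneousLocalization.val_mul _ _).symm.trans e'
    rw [hcm, hcm, hcm, ← Units.val_mul, mul_mul_mul_comm, ← map_mul, ← pt_add, mul_comm (c j k),
      add_comm (ev j k _)] at e''
    exact expo (Units.ext e'')
  obtain ⟨d, hd⟩ : ∃ d : ℤ, ∀ i j, ev i j (m i j) = ev i j d := by
    cases n with
    | zero => exact ⟨0, fun i j => by
      obtain rfl : i = j := Fin.ext (by omega)
      simp [ev]⟩
    | succ n =>
      have h0 : ∀ j, ev 0 j (m 0 j) = ev 0 j (m 0 1) := fun j => by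
        by_cases hj0 : j = 0
        · subst hj0; simp [ev]
        by_cases hj1 : j = 1
        · subst hj1; rfl
        have h1 := congrFun (coc 0 1 j).2 0
        simp only [ev, Pi.add_apply, Pi.sub_apply] at h1
        simp [Ne.symm hj0] at h1
        rw [h1]
      refine ⟨m 0 1, fun i j => ?_⟩
      have h2 := (coc 0 i j).2
      rw [h0 i, h0 j] at h2
      rw [eq_sub_of_add_eq' h2]
      simp only [ev]
      abel
  refine ⟨d, ?_⟩
  choose q hq hqv using fun i => exists_twist_gen (n := n) (R := R) i (c 0 i) d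
  refine ⟨(exists_iso_of_gen (D n R) (iSup_D n R) p q hp hq fun i j V hi hj t ht => ?_).choose⟩
  have hle : V ≤ D n R i ⊓ D n R j := le_inf hi hj
  have a1 := congrArg (mres M hle) (hr i j)
  simp only [mres_smul, mres_mres] at a1
  obtain rfl : t = ores hle (r i j) := (hp i V hi).1 (ht.symm.trans a1.symm)
  refine sv_ext fun x hx => ?_
  rw [sv_mres, sv_smul, sv_mres, hqv, hqv, valO_ores, hcm, ← Units.val_mul]
  congr 1
  rw [hd, pt_ev, ← (coc 0 i j).1, map_mul]
  rw [mul_mul_mul_comm, inv_mul_cancel_right, mul_comm (cu x (c i j))]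

theorem exists_iso_twist [UniqueFactorizationMonoid R] {M : (Proj 𝒢).Modules}
    (hM : PicF.IsInvertible M) : ∃ d : ℤ, Nonempty (M ≅ O d) := by
  choose p hp using fun i => exists_gen hM i
  exact exists_iso_twist_of_gen p hp

/-- Distinct twists differ. -/
theorem twist_injective (hn : 0 < n) {d d' : ℤ} (φ : O d ≅ O d') : d = d' := by
  have h01 : (0 : Fin (n + 1)) ≠ Fin.last n := by simp [Fin.ext_iff]; omega
  choose q hq hqv using fun i => exists_twist_gen (n := n) (R := R) i 1 d
  choose q' hq' hqv' using fun i => exists_twist_gen (n := n) (R := R) i 1 d'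
  have h := fun i => unit_of_gens ((hq' i).mres (inf_le_left : D n R i ⊓ D n R i ≤ _))
    ((isGen_app φ (hq i)).mres inf_le_left)
  choose r r' hrr hr using h
  have hm := fun i => exists_unit_eq i i (r i) (r' i) (hrr i)
  choose c m hcm using hm
  let V := D n R 0 ⊓ D n R (Fin.last n)
  obtain ⟨t, ht⟩ := (hq 0 V inf_le_left).2 (mres (O d) inf_le_right (q (Fin.last n)))
  simp only at ht
  have hV : eta n R ∈ V := ⟨eta_mem 0, eta_mem (Fin.last n)⟩
  have e1 : t • mres (O d') (inf_le_left : V ≤ _) (φ.hom.app _ (q 0)) =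
      mres (O d') inf_le_right (φ.hom.app _ (q (Fin.last n))) := by
    rw [← app_mres, ← app_mres, ← Scheme.Modules.Hom.app_smul, ht]
  have v0 : ∀ i (hi : eta n R ∈ D n R i),
      sv (φ.hom.app _ (q i)) (eta n R) hi =
        ((cu (eta n R) (c i) * tv (eta n R) i ^ d' : (L n R (eta n R))ˣ) :
          L n R (eta n R)) := fun i hi => by
    have e := congrArg (fun s : Γ(O d', D n R i ⊓ D n R i) => sv s (eta n R) ⟨hi, hi⟩) (hr i)
    have e' := (((congrArg₂ (· * ·) (hcm i (eta n R) ⟨hi, hi⟩)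
      ((sv_mres inf_le_left (q' i) (eta n R) ⟨hi, hi⟩).trans (hqv' i (eta n R) hi))).symm.trans
        (sv_smul (r i) _ (eta n R) ⟨hi, hi⟩).symm).trans e).trans (sv_mres inf_le_left _ (eta n R) ⟨hi, hi⟩)
    refine e'.symm.trans ?_
    rw [← Units.val_mul]
    simp [ev, pt_zero]
  have e2 := congrArg (fun s : Γ(O d', V) => sv s (eta n R) hV) e1
  have e3 := congrArg (fun s : Γ(O d, V) => sv s (eta n R) hV) ht
  simp only [sv_smul, sv_mres, v0] at e2
  simp only [sv_smul, sv_mres, hqv, map_one, one_mul] at e3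
  have key : cu (eta n R) (c 0) * pt (eta n R) (ev 0 (Fin.last n) d + Pi.single 0 d') =
      cu (eta n R) (c (Fin.last n)) * pt (eta n R) (Pi.single (Fin.last n) d') := by
    refine Units.ext ?_
    have e4 : valO t (eta n R) hV =
        ((pt (eta n R) (ev 0 (Fin.last n) d) : (L n R (eta n R))ˣ) : L n R (eta n R)) := by
      refine (tv (eta n R) 0 ^ d).isUnit.mul_right_cancel (e3.trans ?_)
      rw [← Units.val_mul, pt_ev, inv_mul_cancel_right]
    rw [e4, ← Units.val_mul] at e2
    rw [pt_single, ← e2, pt_add, pt_single, mul_left_comm]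
  have h1 := congrFun (expo key).2 (Fin.last n)
  simpa [ev, h01, h01.symm] using h1

end Groth.Agent.PicPn
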