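import Groth.Agent.Lib.CohFound.ProjRelVan
import Groth.Agent.Lib.PicPn.Main
import Groth.Agent.Lib.MumVan22.Fibres
import Groth.Agent.Lib.AffGrp19.Basic
import Groth.Agent.Lib.AffStratVan4.Main
import Groth.Agent.S0023

/-!
Points of the base of projective space over a scheme.
-/

set_option autoImplicit false
set_option backward.isDefEq.respectTransparency false

universe u

open CategoryTheory CategoryTheory.Limits AlgebraicGeometry TopologicalSpace Opposite

noncomputable section

namespace Groth.Agent.PicPn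

theorem bijective_toSpec_appTop' (r : ℕ) (R : Type u) [CommRing R] :
    Function.Bijective (CohB1.ProjSpace.toSpec r R).appTop := by
  have h := Twist.bijective_toSpec_appTop r R
  have hi := (ConcreteCategory.isIso_iff_bijective (Scheme.ΓSpecIso (CommRingCat.of R)).inv).1 inferInstance
  exact (Function.Bijective.of_comp_iff _ hi).1 h

variable (r : ℕ) {S : Scheme.{u}} {R : Type u} [CommRing R] (g : Spec (CommRingCat.of R) ⟶ S)

/-- `P^r_R ⟶ P^r_S` over `g`. -/
noncomputable def pj : CohB1.ProjSpace r R ⟶ CohB1.ProjSpaceOver r S :=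
  (ProjSpace.overSpecIso r R).hom ≫ ProjSpace.overMap r g

theorem pj_toBase : pj r g ≫ CohB1.ProjSpaceOver.toBase r S = CohB1.ProjSpace.toSpec r R ≫ g := by
  rw [pj, Category.assoc, (ProjSpace.isPullback_overMap r g).w, ProjSpace.overSpecIso_hom_toBase_assoc]

theorem isPullback_pj :
    IsPullback (pj r g) (CohB1.ProjSpace.toSpec r R) (CohB1.ProjSpaceOver.toBase r S) g := by
  refine IsPullback.of_iso (ProjSpace.isPullback_overMap r g) (ProjSpace.overSpecIso r R).symm (Iso.refl _)
    (Iso.refl _) (Iso.refl _) ?_ ?_ (by simp) (by simp)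
  · simp [pj]
  · simp only [Iso.refl_hom, Category.comp_id, Iso.symm_hom]
    rw [← ProjSpace.overSpecIso_hom_toBase, Iso.inv_hom_id_assoc]

theorem nonempty_pullback_pj_twistOver (d : ℤ) :
    Nonempty ((Scheme.Modules.pullback (pj r g)).obj (_root_.Twist.twistOver r S d) ≅
      _root_.Twist.twistProjSpace r R d) := by
  obtain ⟨e'⟩ := CohFound.nonempty_pullback_twistProjSpace r (ProjSpace.fromZ R) d
  have hfst : pj r g ≫ pullback.fst (CohB1.ProjSpace.toSpec r (ULift.{u} ℤ)) (specULiftZIsTerminal.from S) =
      ProjSpace.map r (ProjSpace.fromZ R) := by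
    rw [← ProjSpace.overSpecIso_hom_fst r R]
    exact (Category.assoc _ _ _).trans (congrArg _ ((pullback.lift_fst _ _ _).trans (Category.comp_id _)))
  exact ⟨(Scheme.Modules.pullbackComp (pj r g) _).app _ ≪≫ (Scheme.Modules.pullbackCongr hfst).app _ ≪≫ e'⟩

/-- Functions on `P^r_S` over an open of `S` are functions on the open. -/
theorem bijective_toBase_app (W : S.Opens) :
    Function.Bijective ((CohB1.ProjSpaceOver.toBase r S).app W) := by
  refine AffGrp19.bijective_app_of_isBasis _ (fun U : S.affineOpens => U.1)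
    (by rw [Subtype.range_coe]; exact S.isBasis_affineOpens) (fun U => ?_) W
  obtain ⟨U, hU⟩ := U
  let π := CohB1.ProjSpaceOver.toBase r S
  let j := pj r hU.fromSpec
  let p := CohB1.ProjSpace.toSpec r Γ(S, U)
  have H := isPullback_pj r hU.fromSpec
  have : IsOpenImmersion j := MorphismProperty.of_isPullback H.flip inferInstance
  have hrange : π ⁻¹ᵁ U ≤ j.opensRange := fun x hx => by
    have hx' : π x ∈ Set.range hU.fromSpec := by rw [hU.range_fromSpec]; exact hx
    obtain ⟨y, hy⟩ := hx'
    obtain ⟨z, hz1, hz2⟩ := Scheme.Pullback.exists_preimage_pullback x y hy.symm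
    refine ⟨H.isoPullback.inv z, ?_⟩
    rw [← Scheme.Hom.comp_apply, IsPullback.isoPullback_inv_fst]
    exact hz1
  have : IsIso (j.app (π ⁻¹ᵁ U)) := j.isIso_app _ hrange
  have hp : ∀ V : (Spec (CommRingCat.of Γ(S, U))).Opens, V = ⊤ → Function.Bijective (p.app V) := by
    rintro _ rfl
    have h1 := bijective_toSpec_appTop' r Γ(S, U)
    exact h1
  have h2 : Function.Bijective ((j ≫ π).app U) := by
    have e : j ≫ π = p ≫ hU.fromSpec := pj_toBase r hU.fromSpec
    rw [e, Scheme.Hom.comp_app]
    exact (hp _ hU.fromSpec_preimage_self).comp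
      ((ConcreteCategory.isIso_iff_bijective _).1 (hU.fromSpec.isIso_app U (by
        rw [Scheme.Hom.opensRange, ← SetLike.coe_subset_coe]
        exact hU.range_fromSpec.ge)))
  rw [Scheme.Hom.comp_app] at h2
  have hj : Function.Bijective (j.app (π ⁻¹ᵁ U)) := (ConcreteCategory.isIso_iff_bijective _).1 inferInstance
  exact (Function.Bijective.of_comp_iff' hj (π.app U)).1 h2

end Groth.Agent.PicPn
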