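import Groth.Agent.Lib.PicPn.NearFibre
import Groth.Agent.Lib.PicPn.OverPoint
import Groth.Agent.Lib.Twist.Tensor
import Groth.Agent.Lib.TensorMod.PullTensor

/-!
Invertible modules on projective space over a scheme.
-/

set_option autoImplicit false
set_option backward.isDefEq.respectTransparency false

universe u

open CategoryTheory CategoryTheory.Limits AlgebraicGeometry TopologicalSpace Opposite Groth.Agent.ModLimH13

noncomputable section

namespace Groth.Agent.PicPn

open Groth.Agent.M1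

/-- A module with generators over preimages of a covering descends along a fibration. -/
theorem exists_descend {X S : Scheme.{u}} (f : X ⟶ S) (hf : ∀ V : S.Opens, Function.Bijective (f.app V))
    {L : X.Modules} {ι : Type u} (U : ι → S.Opens) (hU : ⨆ k, U k = ⊤) (σ : ∀ k, Γ(L, f ⁻¹ᵁ U k))
    (hσ : ∀ k, Twist.IsGen L (f ⁻¹ᵁ U k) (σ k)) :
    ∃ N : S.Modules, PicF.IsInvertible N ∧ Nonempty (L ≅ (Scheme.Modules.pullback f).obj N) := by
  let N := (Scheme.Modules.pushforward f).obj L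
  let τ : ∀ k, Γ(N, U k) := σ
  have hτ : ∀ k, Twist.IsGen N (U k) (τ k) := fun k V hV =>
    (hσ k (f ⁻¹ᵁ V) (f.preimage_mono hV)).comp (hf V)
  refine ⟨N, fun x => ?_, ?_⟩
  · obtain ⟨k, hk⟩ := Opens.mem_iSup.1 (hU.ge (show x ∈ (⊤ : S.Opens) from trivial))
    exact ⟨U k, hk, Twist.nonempty_restrict_iso N (U k) (τ k) (hτ k)⟩
  · have hcov : ⨆ k, f ⁻¹ᵁ U k = ⊤ := by
      rw [← Scheme.Hom.preimage_iSup, hU]
      rfl
    let P := (Scheme.Modules.pullback f).obj N
    let q : ∀ k, Γ(P, f ⁻¹ᵁ U k) := fun k => M2.pullSec f N (τ k)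
    have hq : ∀ k, Twist.IsGen P (f ⁻¹ᵁ U k) (q k) := fun k => (hτ k).pullback f
    refine ⟨(Twist.exists_iso_of_gen (fun k => f ⁻¹ᵁ U k) hcov σ q hσ hq fun i j W hi hj t ht => ?_).choose⟩
    obtain ⟨a, ha⟩ := (hτ i (U i ⊓ U j) inf_le_left).2 (mres N inf_le_right (τ j))
    have hW : W ≤ f ⁻¹ᵁ (U i ⊓ U j) := le_inf hi hj
    let a' : Γ(X, W) := ores hW (f.app _ a)
    have e1 : a' • mres L hi (σ i) = mres L hj (σ j) := by
      have h := congrArg (fun s : Γ(N, U i ⊓ U j) => mres L hW (show Γ(L, f ⁻¹ᵁ (U i ⊓ U j)) from s)) ha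
      refine Eq.trans ?_ (h.trans ?_)
      · refine Eq.trans ?_ (mres_smul L hW (f.app _ a) (mres L (f.preimage_mono inf_le_left) (σ i))).symm
        rw [mres_mres]
      · exact mres_mres L (f.preimage_mono inf_le_right) hW (σ j)
    obtain rfl : t = a' := (hσ i W hi).1 (ht.symm.trans e1.symm)
    have e2 : res' f N hW (a • mres N (inf_le_left : U i ⊓ U j ≤ U i) (τ i)) =
        res' f N hW (mres N (inf_le_right : U i ⊓ U j ≤ U j) (τ j)) := congrArg (res' f N hW) ha
    rw [res'_smul, res'_mres, res'_mres] at e2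
    exact e2.symm

variable (r : ℕ) {S : Scheme.{u}}

local notation "π" => CohB1.ProjSpaceOver.toBase r S

/-- `O(d) ⊗ O(e) ≅ O(d + e)` on projective space over a scheme. -/
theorem nonempty_twistOver_tensor (d e : ℤ) :
    Nonempty (CohB1.tensorMod (_root_.Twist.twistOver r S d) (_root_.Twist.twistOver r S e) ≅
      _root_.Twist.twistOver r S (d + e)) := by
  obtain ⟨t⟩ := Twist.nonempty_tensor_iso (CohB1.polyGrading r (ULift.{u} ℤ)) d e
    (Twist.iSup_basicOpen_one r (ULift.{u} ℤ))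
  exact ⟨(M2.pullTensorIso _ _ _).symm ≪≫ (Scheme.Modules.pullback _).mapIso t⟩

theorem nonempty_twistOver_zero :
    Nonempty (_root_.Twist.twistOver r S 0 ≅ Coh.structureModule (CohB1.ProjSpaceOver r S)) := by
  obtain ⟨t⟩ := Twist.nonempty_twist_zero_iso (CohB1.polyGrading r (ULift.{u} ℤ))
  exact ⟨(Scheme.Modules.pullback _).mapIso t ≪≫ Twist.pullbackUnitIso _⟩

/-- Cancelling `O(d)`. -/
theorem nonempty_tensor_twistOver_cancel (A : (CohB1.ProjSpaceOver r S).Modules) {d e : ℤ} (h : d + e = 0) :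
    Nonempty (CohB1.tensorMod (CohB1.tensorMod A (_root_.Twist.twistOver r S d)) (_root_.Twist.twistOver r S e) ≅ A) := by
  obtain ⟨t⟩ := nonempty_twistOver_tensor r (S := S) d e
  obtain ⟨z⟩ := nonempty_twistOver_zero r (S := S)
  exact ⟨M2.tensorAssoc _ _ _ ≪≫ M2.tensorIso (Iso.refl A) (t ≪≫ eqToIso (congrArg (_root_.Twist.twistOver r S) h) ≪≫ z)
    ≪≫ M2.tensorRUnit A⟩

/-- On `P⁰` all twists agree. -/
theorem nonempty_twist_iso_of_zero (R : Type u) [CommRing R] [IsDomain R] (d e : ℤ) :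
    Nonempty (_root_.Twist.twistProjSpace 0 R d ≅ _root_.Twist.twistProjSpace 0 R e) := by
  choose q hq hqv using fun i => exists_twist_gen (n := 0) (R := R) i 1 d
  choose q' hq' hqv' using fun i => exists_twist_gen (n := 0) (R := R) i 1 e
  refine ⟨(Twist.exists_iso_of_gen (D 0 R) (iSup_D 0 R) q q' hq hq' fun i j V hi hj t ht => ?_).choose⟩
  obtain rfl : i = j := Fin.ext (by omega)
  obtain rfl : t = 1 := (hq i V hi).1 (ht.symm.trans (one_smul _ _).symm)
  exact (one_smul _ _).symm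

variable (S) in
/-- `P^r_{κ(s)} ⟶ P^r_S`. -/
noncomputable abbrev pt' (s : S) : CohB1.ProjSpace r (S.residueField s) ⟶ CohB1.ProjSpaceOver r S :=
  pj r (S.fromSpecResidueField s)

theorem exists_degree (L : (CohB1.ProjSpaceOver r S).Modules) (hL : PicF.IsInvertible L) (s : S) :
    ∃ d : ℤ, Nonempty ((Scheme.Modules.pullback (pt' r S s)).obj L ≅
      _root_.Twist.twistProjSpace r (S.residueField s) d) :=
  exists_iso_twist (n := r) (R := S.residueField s) (M := (Scheme.Modules.pullback (pt' r S s)).obj L)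
    (Twist.isInvertible_pullback _ hL)

/-- If `L` has degree zero on the fibre at `s` then it has a generator over a neighbourhood of `s`. -/
theorem exists_gen_of_fibre (L : (CohB1.ProjSpaceOver r S).Modules) (hL : PicF.IsInvertible L) (s : S)
    (h : Nonempty ((Scheme.Modules.pullback (pt' r S s)).obj L ≅ Coh.structureModule _)) :
    ∃ (U : S.Opens) (σ : Γ(L, π ⁻¹ᵁ U)), s ∈ U ∧ Twist.IsGen L (π ⁻¹ᵁ U) σ := by
  obtain ⟨θ⟩ := h
  have H := isPullback_pj r (S.fromSpecResidueField s)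
  let a : CohB1.ProjSpace r (S.residueField s) ≅ (π).fiber s := H.isoPullback
  have ha1 : a.hom ≫ (π).fiberι s = pt' r S s := H.isoPullback_hom_fst
  have ha2 : a.hom ≫ (π).fiberToSpecResidueField s = CohB1.ProjSpace.toSpec r (S.residueField s) :=
    H.isoPullback_hom_snd
  let F := (Scheme.Modules.pullback ((π).fiberι s)).obj L
  have e1 : (Scheme.Modules.pullback a.hom).obj F ≅ Coh.structureModule _ :=
    (Scheme.Modules.pullbackComp a.hom _).app _ ≪≫ (Scheme.Modules.pullbackCongr ha1).app _ ≪≫ θ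
  have e2 : F ≅ Coh.structureModule ((π).fiber s) :=
    ((Scheme.Modules.pullbackId _).app F).symm ≪≫ (Scheme.Modules.pullbackCongr a.inv_hom_id).symm.app F ≪≫
      ((Scheme.Modules.pullbackComp a.inv a.hom).app F).symm ≪≫ (Scheme.Modules.pullback a.inv).mapIso e1 ≪≫
      Twist.pullbackUnitIso a.inv
  refine exists_gen_near_fibre π hL s ?_ ⟨e2⟩
  · have h0 := Groth.Agent.S0023.result r (S.residueField s) 1 one_pos
    exact (MumVan22.subsingleton_HH_iso_iff a.hom (Twist.isInvertible_pullback _ hL) 1).1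
      (AffStratVan4.subsingleton_HH_congr e1.symm 1 h0)

theorem pullback_toBase_pt (A : S.Modules) (hA : PicF.IsInvertible A) (s : S) :
    Nonempty ((Scheme.Modules.pullback (pt' r S s)).obj ((Scheme.Modules.pullback π).obj A) ≅ Coh.structureModule _) := by
  have hg := Twist.isInvertible_pullback (S.fromSpecResidueField s) hA
  have : Subsingleton (Spec (S.residueField s)) := inferInstanceAs (Subsingleton (PrimeSpectrum (S.residueField s)))
  obtain ⟨D, g, hD, hgen⟩ := ProjUP.exists_isGen_of_invertible hg (IsLocalRing.closedPoint (S.residueField s))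
  obtain rfl : D = ⊤ := top_le_iff.1 fun x _ => by
    rwa [Subsingleton.elim x (IsLocalRing.closedPoint (S.residueField s))]
  obtain ⟨e⟩ := Twist.nonempty_iso_of_generator _ g fun U => hgen U le_top
  exact ⟨(Scheme.Modules.pullbackComp _ _).app A ≪≫ (Scheme.Modules.pullbackCongr (pj_toBase r _)).app A ≪≫
    ((Scheme.Modules.pullbackComp _ _).app A).symm ≪≫ (Scheme.Modules.pullback _).mapIso e ≪≫
    Twist.pullbackUnitIso _⟩

theorem nonempty_pt_tensor_twist (L : (CohB1.ProjSpaceOver r S).Modules) (d : ℤ) (s : S) {e : ℤ}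
    (h : Nonempty ((Scheme.Modules.pullback (pt' r S s)).obj L ≅ _root_.Twist.twistProjSpace r (S.residueField s) e)) :
    Nonempty ((Scheme.Modules.pullback (pt' r S s)).obj (CohB1.tensorMod L (_root_.Twist.twistOver r S d)) ≅
      _root_.Twist.twistProjSpace r (S.residueField s) (e + d)) := by
  obtain ⟨θ⟩ := h
  obtain ⟨φ⟩ := nonempty_pullback_pj_twistOver r (S.fromSpecResidueField s) d
  obtain ⟨t⟩ := Twist.nonempty_tensor_iso (CohB1.polyGrading r (S.residueField s)) e d
    (Twist.iSup_basicOpen_one r _)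
  exact ⟨M2.pullTensorIso _ _ _ ≪≫ M2.tensorIso θ φ ≪≫ t⟩

/-- Existence of the decomposition over a connected base. -/
theorem exists_decomp [ConnectedSpace S] (L : (CohB1.ProjSpaceOver r S).Modules) (hL : PicF.IsInvertible L) :
    ∃ (N : S.Modules) (d : ℤ), PicF.IsInvertible N ∧
      Nonempty (L ≅ CohB1.tensorMod ((Scheme.Modules.pullback π).obj N) (_root_.Twist.twistOver r S d)) := by
  obtain ⟨s₀⟩ := (inferInstance : Nonempty S)
  let HasDeg : ℤ → S → Prop := fun d s => Nonempty ((Scheme.Modules.pullback (pt' r S s)).obj L ≅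
      _root_.Twist.twistProjSpace r (S.residueField s) d)
  let L' : ℤ → (CohB1.ProjSpaceOver r S).Modules := fun d => CohB1.tensorMod L (_root_.Twist.twistOver r S (-d))
  have hL' : ∀ d, PicF.IsInvertible (L' d) := fun d =>
    M2.isInvertible_tensor hL (Twist.isInvertible_twistOver r S (-d))
  have htriv : ∀ d s, HasDeg d s →
      Nonempty ((Scheme.Modules.pullback (pt' r S s)).obj (L' d) ≅ Coh.structureModule _) := fun d s h => by
    obtain ⟨φ⟩ := nonempty_pt_tensor_twist r L (-d) s h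
    obtain ⟨z⟩ := Twist.nonempty_twist_zero_iso (CohB1.polyGrading r (S.residueField s))
    exact ⟨φ ≪≫ eqToIso (congrArg (_root_.Twist.twistProjSpace r (S.residueField s)) (add_neg_cancel d)) ≪≫ z⟩
  have hnear : ∀ d s, HasDeg d s → ∃ (U : S.Opens) (σ : Γ(L' d, π ⁻¹ᵁ U)), s ∈ U ∧
      Twist.IsGen (L' d) (π ⁻¹ᵁ U) σ := fun d s h => exists_gen_of_fibre r (L' d) (hL' d) s (htriv d s h)
  have hconst : ∀ d s, HasDeg d s → ∀ᶠ t in nhds s, HasDeg d t := by
    intro d s h
    obtain ⟨U, σ, hsU, hσ⟩ := hnear d s h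
    filter_upwards [U.2.mem_nhds hsU] with t ht
    obtain ⟨e, he⟩ := exists_degree r L hL t
    obtain ⟨φ⟩ := nonempty_pt_tensor_twist r L (-d) t he
    have htop : (pt' r S t) ⁻¹ᵁ (π ⁻¹ᵁ U) = ⊤ := top_le_iff.1 fun x _ => by
      show π (pt' r S t x) ∈ U
      rw [← Scheme.Hom.comp_apply, pj_toBase, Scheme.Hom.comp_apply]
      erw [S.fromSpecResidueField_apply]
      exact ht
    have hgen := hσ.pullback (pt' r S t)
    obtain ⟨ψ⟩ := Twist.nonempty_iso_of_generator _
      (mres _ htop.ge (M2.pullSec (pt' r S t) (L' d) σ)) fun V => by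
        simp only [mres_mres]
        exact hgen V (le_top.trans htop.ge)
    obtain ⟨z⟩ := Twist.nonempty_twist_zero_iso (CohB1.polyGrading r (S.residueField t))
    rcases Nat.eq_zero_or_pos r with hr | hr
    · subst hr
      obtain ⟨θ⟩ := he
      obtain ⟨ω⟩ := nonempty_twist_iso_of_zero (S.residueField t) e d
      exact ⟨θ ≪≫ ω⟩
    · have := twist_injective hr (φ.symm ≪≫ ψ ≪≫ z.symm)
      obtain rfl : e = d := by omega
      exact he
  obtain ⟨d₀, hd₀⟩ := exists_degree r L hL s₀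
  have hopen : IsOpen {s | HasDeg d₀ s} := isOpen_iff_eventually.2 fun s hs => hconst d₀ s hs
  have hall : ∀ s, HasDeg d₀ s := by
    by_contra hcon
    push Not at hcon
    obtain ⟨s₁, hs₁⟩ := hcon
    let B : Set S := {s | ¬ HasDeg d₀ s}
    have hB : IsOpen B := isOpen_iff_eventually.2 fun s hs => by
      obtain ⟨e, he⟩ := exists_degree r L hL s
      filter_upwards [hconst e s he] with t ht htd
      rcases Nat.eq_zero_or_pos r with hr | hr
      · subst hr
        obtain ⟨θ⟩ := he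
        obtain ⟨ω⟩ := nonempty_twist_iso_of_zero (S.residueField s) e d₀
        exact hs ⟨θ ≪≫ ω⟩
      · obtain ⟨θ⟩ := ht
        obtain ⟨θ'⟩ := htd
        obtain rfl : d₀ = e := twist_injective hr (θ'.symm ≪≫ θ)
        exact hs he
    have hclopen : IsClopen {s | HasDeg d₀ s} := ⟨⟨hB⟩, hopen⟩
    exact hs₁ ((hclopen.eq_univ ⟨s₀, hd₀⟩).symm.subset trivial)
  choose U σ hmem hσ using fun s => hnear d₀ s (hall s)
  obtain ⟨N, hN, ⟨φ⟩⟩ := exists_descend π (bijective_toBase_app r) U
    (top_le_iff.1 fun x _ => Opens.mem_iSup.2 ⟨x, hmem x⟩) σ hσ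
  obtain ⟨c⟩ := nonempty_tensor_twistOver_cancel r L (neg_add_cancel d₀)
  exact ⟨N, d₀, hN, ⟨c.symm ≪≫ M2.tensorIso φ (Iso.refl _)⟩⟩

/-- Uniqueness of the decomposition. -/
theorem decomp_unique [Nonempty S] (hr : 1 ≤ r) {L L' : S.Modules} {d d' : ℤ} (hL : PicF.IsInvertible L)
    (hL' : PicF.IsInvertible L')
    (h : Nonempty (CohB1.tensorMod ((Scheme.Modules.pullback π).obj L) (_root_.Twist.twistOver r S d) ≅
      CohB1.tensorMod ((Scheme.Modules.pullback π).obj L') (_root_.Twist.twistOver r S d'))) :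
    d = d' ∧ Nonempty (L ≅ L') := by
  obtain ⟨φ⟩ := h
  obtain ⟨s⟩ := (inferInstance : Nonempty S)
  have hdeg : ∀ (A : S.Modules), PicF.IsInvertible A → Nonempty ((Scheme.Modules.pullback (pt' r S s)).obj
      ((Scheme.Modules.pullback π).obj A) ≅ _root_.Twist.twistProjSpace r (S.residueField s) 0) := fun A hA => by
    obtain ⟨θ⟩ := pullback_toBase_pt r A hA s
    obtain ⟨z⟩ := Twist.nonempty_twist_zero_iso (CohB1.polyGrading r (S.residueField s))
    exact ⟨θ ≪≫ z.symm⟩
  obtain ⟨a⟩ := nonempty_pt_tensor_twist r _ d s (hdeg L hL)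
  obtain ⟨a'⟩ := nonempty_pt_tensor_twist r _ d' s (hdeg L' hL')
  have hd := twist_injective hr (a.symm ≪≫ (Scheme.Modules.pullback _).mapIso φ ≪≫ a')
  obtain rfl : d = d' := by omega
  refine ⟨rfl, ?_⟩
  obtain ⟨c⟩ := nonempty_tensor_twistOver_cancel r ((Scheme.Modules.pullback π).obj L) (add_neg_cancel d)
  obtain ⟨c'⟩ := nonempty_tensor_twistOver_cancel r ((Scheme.Modules.pullback π).obj L') (add_neg_cancel d)
  have := PushUnit3.isIso_unit π (bijective_toBase_app r) (M2.isFinLocFree_of_isInvertible hL)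
  have := PushUnit3.isIso_unit π (bijective_toBase_app r) (M2.isFinLocFree_of_isInvertible hL')
  exact ⟨asIso ((Scheme.Modules.pullbackPushforwardAdjunction π).unit.app L) ≪≫
    (Scheme.Modules.pushforward π).mapIso (c.symm ≪≫ M2.tensorIso φ (Iso.refl _) ≪≫ c') ≪≫
    (asIso ((Scheme.Modules.pullbackPushforwardAdjunction π).unit.app L')).symm⟩

end Groth.Agent.PicPn
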