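import Groth.Agent.Lib.PicPn.Subst
import Groth.Agent.Lib.PicPn.Family
import Groth.Agent.Lib.Segre.Basic

/-!
Automorphisms of projective space over a field are linear.
-/

set_option autoImplicit false
set_option linter.style.haveILetI false
set_option linter.unusedSimpArgs false
set_option backward.isDefEq.respectTransparency false

open CategoryTheory CategoryTheory.Limits AlgebraicGeometry TopologicalSpace MvPolynomial

universe u

noncomputable section

namespace Groth.Agent.PicPn

open Groth.Agent.Twist Groth.Agent.M1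

variable {n : ℕ} {k : Type u} [Field k]

local notation "𝒢" => CohB1.polyGrading n k
local notation "A" => MvPolynomial (Fin (n + 1)) k
local notation "O" d:max => _root_.Twist.twist (CohB1.polyGrading n k) d
local notation "GLk" => GL (Fin (n + 1)) k

/-- `O(e)^{⊗ i} ≅ O(i e)`. -/
theorem nonempty_tensorPow_twist (e : ℤ) : ∀ i : ℕ, Nonempty (CohB1.tensorPow (O e) i ≅ O ((i : ℤ) * e))
  | 0 => by
    obtain ⟨z⟩ := Twist.nonempty_twist_zero_iso (CohB1.polyGrading n k)
    exact ⟨z.symm ≪≫ eqToIso (congrArg (_root_.Twist.twist (CohB1.polyGrading n k)) (by simp))⟩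
  | i + 1 => by
    obtain ⟨φ⟩ := nonempty_tensorPow_twist e i
    obtain ⟨t⟩ := Twist.nonempty_tensor_iso (CohB1.polyGrading n k) ((i : ℤ) * e) e (Twist.iSup_basicOpen_one n k)
    exact ⟨M2.tensorIso φ (Iso.refl _) ≪≫ t ≪≫
      eqToIso (congrArg (_root_.Twist.twist (CohB1.polyGrading n k)) (by push_cast; ring))⟩

variable (σ : CohB1.ProjSpace n k ⟶ CohB1.ProjSpace n k) [IsIso σ]

/-- An automorphism pulls `O(1)` back to `O(1)`. -/
theorem nonempty_pullback_twist_one : Nonempty ((Scheme.Modules.pullback σ).obj (O 1) ≅ O 1) := by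
  have hinv : ∀ (s : CohB1.ProjSpace n k ⟶ CohB1.ProjSpace n k), PicF.IsInvertible ((Scheme.Modules.pullback s).obj (O 1)) :=
    fun s => Twist.isInvertible_pullback s (Twist.isInvertible_twistProjSpace n k 1)
  obtain ⟨d, ⟨φ⟩⟩ := exists_iso_twist (hinv σ)
  rcases Nat.eq_zero_or_pos n with hn | hn
  · subst hn
    obtain ⟨ω⟩ := nonempty_twist_iso_of_zero k d 1
    exact ⟨φ ≪≫ ω⟩
  have hd : 0 ≤ d := by
    by_contra hd
    haveI := Twist.subsingleton_sections_twistProjSpace_neg n k hn (lt_of_not_ge hd)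
    let U := σ ⁻¹ᵁ Proj.basicOpen 𝒢 (X 0 : A)
    have hg := ProjDeg17.isGen_app_iso φ (ProjUP.isGen_sec 𝒢 σ (ProjSpace.X_mem' n k 0))
    rw [app_mres] at hg
    have h0 : φ.hom.app ⊤ (ProjUP.sec 𝒢 σ (ProjSpace.X_mem' n k 0)) = (0 : Γ(O d, ⊤)) :=
      Subsingleton.elim (α := Sec (𝒜 := CohB1.polyGrading n k) d ⊤) _ _
    rw [h0, map_zero] at hg
    obtain ⟨x, hx⟩ : ∃ x : Pt n k, x ∈ U := ⟨inv σ (eta n k), by
      show σ (inv σ (eta n k)) ∈ Proj.basicOpen 𝒢 (X 0 : A)
      rw [← Scheme.Hom.comp_apply, IsIso.inv_hom_id]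
      exact eta_mem 0⟩
    have h1 : (1 : Γ(Proj 𝒢, U)) = 0 := (hg U le_rfl).1 (by simp)
    have h2 := congrArg (fun r => valO r x hx) h1
    exact one_ne_zero ((HomogeneousLocalization.val_one.symm.trans h2).trans HomogeneousLocalization.val_zero)
  obtain ⟨e, ⟨ψ⟩⟩ := exists_iso_twist (hinv (inv σ))
  obtain ⟨i, rfl⟩ : ∃ i : ℕ, d = (i : ℤ) := ⟨d.toNat, by omega⟩
  obtain ⟨P⟩ := nonempty_tensorPow_twist (n := n) (k := k) e i
  obtain ⟨Q⟩ := Twist.nonempty_iso_tensorPow (CohB1.polyGrading n k) (Twist.iSup_basicOpen_one n k) i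
  have key : O 1 ≅ O ((i : ℤ) * e) :=
    ((Scheme.Modules.pullbackId _).app (O 1)).symm ≪≫
      (Scheme.Modules.pullbackCongr (IsIso.inv_hom_id σ)).symm.app (O 1) ≪≫
      ((Scheme.Modules.pullbackComp (inv σ) σ).app (O 1)).symm ≪≫
      (Scheme.Modules.pullback (inv σ)).mapIso (φ ≪≫ Q) ≪≫
      M2.pullTensorPowIso (inv σ) (O 1) i ≪≫ M2.tensorPowIso ψ i ≪≫ P
  have h := twist_injective hn key
  obtain rfl : i = 1 := by
    have := Int.eq_one_of_mul_eq_one_right (by omega) h.symm
    omega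
  exact ⟨φ⟩

theorem eq_lin_of_mem {p : A} (hp : p ∈ CohB1.polyGrading n k 1) :
    p = ∑ i, C (coeff (Finsupp.single i 1) p) * X i := by
  classical
  ext v
  simp only [coeff_sum, coeff_C_mul, coeff_X', mul_ite, mul_one, mul_zero]
  by_cases hv : Finsupp.degree v = 1
  · obtain ⟨j, rfl⟩ : ∃ j, v = Finsupp.single j 1 := by
      have hne : v ≠ 0 := fun h => by simp [h] at hv
      obtain ⟨j, hj⟩ := Finsupp.support_nonempty_iff.2 hne
      have hsum := (Finsupp.degree_eq_sum v).symm.trans hv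
      refine ⟨j, Finsupp.ext fun l => ?_⟩
      have hj' : 1 ≤ v j := Nat.one_le_iff_ne_zero.2 (Finsupp.mem_support_iff.1 hj)
      by_cases hlj : l = j
      · subst hlj
        have : v l ≤ 1 := (Finset.single_le_sum (f := fun i => v i) (fun _ _ => Nat.zero_le _)
          (Finset.mem_univ l)).trans hsum.le
        simp; omega
      · have : v l + v j ≤ 1 := by
          exact (Finset.sum_pair (f := fun i => v i) hlj).symm.le.trans
            ((Finset.sum_le_sum_of_subset (Finset.subset_univ _)).trans hsum.le)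
        simp [Ne.symm hlj]; omega
    rw [Finset.sum_eq_single j (fun i _ hij => if_neg fun h => hij (Finsupp.single_left_injective one_ne_zero h))
      (fun h => absurd (Finset.mem_univ j) h), if_pos rfl]
  · rw [((mem_homogeneousSubmodule 1 p).1 hp).coeff_eq_zero hv]
    refine (Finset.sum_eq_zero fun i _ => if_neg fun h => hv ?_).symm
    rw [← h, Finsupp.degree_single]

/-- Automorphisms over the field are linear. -/
theorem exists_lmap_eq (hσ : σ ≫ CohB1.ProjSpace.toSpec n k = CohB1.ProjSpace.toSpec n k) :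
    ∃ g : GLk, lmap g = σ := by
  obtain ⟨θ⟩ := nonempty_pullback_twist_one σ
  have hl : ∀ j, ∃ l : CohB1.polyGrading n k 1, _root_.Twist.globalOf (CohB1.polyGrading n k) l =
      (θ.hom.app ⊤ (ProjUP.sec 𝒢 σ (ProjSpace.X_mem' n k j)) : Sec (𝒜 := CohB1.polyGrading n k) ((1 : ℕ) : ℤ) ⊤) :=
    fun j => (Twist.globalOf_bijective_polyGrading n k 1).2 _
  choose l hl using hl
  let M : Matrix (Fin (n + 1)) (Fin (n + 1)) k := fun j i => coeff (Finsupp.single i 1) (l j : A)
  have hM : ∀ j, (l j : A) = lin M j := fun j => eq_lin_of_mem (l j).2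
  have hval : ∀ (j : Fin (n + 1)) (x : Pt n k),
      sv (d := 1) (θ.hom.app ⊤ (ProjUP.sec 𝒢 σ (ProjSpace.X_mem' n k j))) x trivial =
        algebraMap A (L n k x) (lin M j) := fun j x => by
    have h := congrArg (fun s => val (n := ((1 : ℕ) : ℤ)) (U := ⊤) s x trivial) (hl j)
    refine h.symm.trans ?_
    rw [← hM, ← Localization.mk_one_eq_algebraMap]
    rfl
  -- the forms do not vanish together
  have hmem : ∀ (m : Fin (n + 1)) (x : Pt n k), σ x ∈ Proj.basicOpen 𝒢 (X m : A) → lin M m ∉ x.asHomogeneousIdeal := by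
    intro m x hx
    let U := σ ⁻¹ᵁ Proj.basicOpen 𝒢 (X m : A)
    have hg := ProjDeg17.isGen_app_iso θ (ProjUP.isGen_sec 𝒢 σ (ProjSpace.X_mem' n k m))
    rw [app_mres] at hg
    obtain ⟨i, hi⟩ := Opens.mem_iSup.1 ((iSup_D n k).ge (show x ∈ (⊤ : (Proj 𝒢).Opens) from trivial))
    obtain ⟨q, hq, hqv⟩ := exists_twist_gen (n := n) (R := k) i 1 1
    let W := U ⊓ D n k i
    have hxW : x ∈ W := ⟨hx, hi⟩
    obtain ⟨r, hr⟩ := (hg W inf_le_left).2 (mres (O 1) (inf_le_right : W ≤ D n k i) q)
    have e := congrArg (fun s : Γ(O 1, W) => sv s x hxW) hr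
    simp only [mres_mres] at e
    rw [sv_smul, sv_mres, sv_mres, hqv, hval, map_one, one_mul, zpow_one] at e
    have hu : IsUnit (algebraMap A (L n k x) (lin M m)) :=
      isUnit_of_mul_isUnit_right (e ▸ (tv x i).isUnit)
    exact (IsLocalization.AtPrime.isUnit_to_map_iff (L n k x) x.asHomogeneousIdeal.toIdeal _).1 hu
  have hdet : M.det ≠ 0 := by
    intro hdet
    obtain ⟨v, hv, hMv⟩ := Matrix.exists_mulVec_eq_zero_iff.2 hdet
    let ψ : CohB1.polyGrading n k →+*ᵍ CohB1.polyGrading 0 k :=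
      { (aeval (R := k) fun j => C (v j) * X (0 : Fin 1)).toRingHom with
        map_mem := fun {i x} h => by
          have h1 : ∀ j, (C (v j) * X (0 : Fin 1) : MvPolynomial (Fin 1) k).IsHomogeneous 1 := fun j => by
            simpa using (isHomogeneous_C _ (v j)).mul (isHomogeneous_X k (0 : Fin 1))
          have := IsHomogeneous.aeval (n := 1) h (fun j => C (v j) * X (0 : Fin 1)) h1
          rw [one_mul] at this
          exact this }
    have hψX : ∀ j, ψ (X j) = C (v j) * X (0 : Fin 1) := fun j => aeval_X _ _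
    obtain ⟨j₀, hj₀⟩ : ∃ j, v j ≠ 0 := Function.ne_iff.1 hv
    have hne : ψ (X j₀) ≠ 0 := by
      rw [hψX]
      exact mul_ne_zero (by simpa using hj₀) (X_ne_zero 0)
    let x : Pt n k :=
      ⟨HomogeneousIdeal.comap ψ ⊥, Ideal.comap_isPrime (H := Ideal.isPrime_bot) ψ _, fun h => by
        exact hne (Ideal.mem_bot.1 (h (HomogeneousIdeal.mem_irrelevant_of_mem _ Nat.one_pos (ProjSpace.X_mem' n k j₀))))⟩
    obtain ⟨m, hm⟩ := Opens.mem_iSup.1 ((iSup_D n k).ge (show σ x ∈ (⊤ : (Proj 𝒢).Opens) from trivial))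
    refine hmem m x hm (Ideal.mem_bot.2 ?_)
    show ψ (lin M m) = 0
    have : ψ (lin M m) = C (∑ i, M m i * v i) * X (0 : Fin 1) := by
      simp only [lin, map_sum, map_mul, Finset.sum_mul]
      refine Finset.sum_congr rfl fun i _ => ?_
      rw [hψX, show ψ (C (M m i)) = C (M m i) from aeval_C _ _, mul_assoc]
    rw [this, show ∑ i, M m i * v i = 0 from congrFun hMv m, map_zero, zero_mul]
  let g : GLk := Matrix.GeneralLinearGroup.mkOfDetNeZero M hdet
  have hg : ((g : GLk) : Matrix (Fin (n + 1)) (Fin (n + 1)) k) = M := rfl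
  refine ⟨g, (Segre.ext_of_co k (r := σ) (r' := lmap g) ?_ fun x => ?_).symm⟩
  · show σ ≫ CohB1.ProjSpace.toSpec n k = lmap g ≫ CohB1.ProjSpace.toSpec n k
    rw [hσ, lmap_toSpec]
  · obtain ⟨m, hm⟩ := Opens.mem_iSup.1 ((iSup_D n k).ge (show σ x ∈ (⊤ : (Proj 𝒢).Opens) from trivial))
    let U := σ ⁻¹ᵁ Proj.basicOpen 𝒢 (X m : A)
    have hU : U ≤ σ ⁻¹ᵁ Proj.basicOpen 𝒢 (X m : A) := le_rfl
    have hU' : U ≤ lmap g ⁻¹ᵁ Proj.basicOpen 𝒢 (X m : A) := fun y hy => by
      show sub (g : Matrix (Fin (n + 1)) (Fin (n + 1)) k) (X m) ∉ (y : Pt n k).asHomogeneousIdeal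
      rw [hg, sub_X]
      exact hmem m y hy
    refine ⟨m, U, hU, hU', hm, fun a => sectionO_ext fun y hy => ?_⟩
    have h1 := congrArg (θ.hom.app U) (ProjUP.sec_eq_ev_smul 𝒢 σ (ProjSpace.X_mem' n k m) (ProjSpace.X_mem' n k a) U hU)
    rw [Scheme.Modules.Hom.app_smul, app_mres, app_mres] at h1
    have h2 := congrArg (fun s : Γ(O 1, U) => sv s y hy) h1
    rw [sv_smul, sv_mres, sv_mres, hval, hval] at h2
    have h3 := valO_ev_lmap g m a U hU' y hy
    rw [hg] at h3
    exact (isUnit_alg (hmem m y hy)).mul_right_cancel (h2.symm.trans h3.symm)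

omit σ in
theorem phi_surjective : Function.Surjective (phi : GLk →* Aut (Over.mk (CohB1.ProjSpace.toSpec n k))) := by
  intro a
  haveI : IsIso a.hom.left := (Over.forget _).map_isIso a.hom
  obtain ⟨g, hg⟩ := exists_lmap_eq a.hom.left (Over.w a.hom)
  exact ⟨g, Aut.ext (Over.OverMorphism.ext hg)⟩

omit σ in
theorem ker_phi : (phi : GLk →* Aut (Over.mk (CohB1.ProjSpace.toSpec n k))).ker =
    (Units.map (Matrix.scalar (Fin (n + 1)) : k →+* Matrix (Fin (n + 1)) (Fin (n + 1)) k).toMonoidHom).range := by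
  refine le_antisymm (fun g hg => ?_) ?_
  · have hid : lmap g = 𝟙 _ := congrArg (fun a : Aut (Over.mk (CohB1.ProjSpace.toSpec n k)) => a.hom.left) hg
    let M := ((g : GLk) : Matrix (Fin (n + 1)) (Fin (n + 1)) k)
    have hlin : ∀ m a, lin M a * X m = lin M m * X a := by
      intro m a
      have hpre : lmap g ⁻¹ᵁ Proj.basicOpen 𝒢 (X m : A) = D n k m := by rw [hid]; rfl
      have hxU : eta n k ∈ D n k m := eta_mem m
      have h3 := valO_ev_lmap g m a (D n k m) hpre.ge (eta n k) hxU
      have h1 : ProjUP.ev 𝒢 (ProjSpace.X_mem' n k m) (lmap g) (D n k m) hpre.ge (X a) =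
          Proj.awayToSection 𝒢 (X m : A) (EGA2.dehom 𝒢 (ProjSpace.X_mem' n k m) (X a)) := by
        rw [ProjUP.ev_apply]
        generalize hpre.ge = hle
        revert hle
        rw [hid]
        intro hle
        simp [Scheme.Hom.appLE]
        rfl
      have h4 : valO (Proj.awayToSection 𝒢 (X m : A) (EGA2.dehom 𝒢 (ProjSpace.X_mem' n k m) (X a))) (eta n k) hxU *
          algebraMap A (L n k (eta n k)) (X m) = algebraMap A (L n k (eta n k)) (X a) := by
        rw [ProjUP.valO_awayToSection_dehom 𝒢 (ProjSpace.X_mem' n k m) (ProjSpace.X_mem' n k a) (eta n k) hxU,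
          Localization.mk_eq_mk']
        simp only [pow_one]
        exact IsLocalization.mk'_spec _ _ _
      rw [h1] at h3
      refine alg_eta_injective (n := n) (R := k) ?_
      rw [map_mul, map_mul, ← h3, ← h4]
      ring
    classical
    have heval : ∀ (m a s : Fin (n + 1)), M a s * (if s = m then (1 : k) else 0) =
        M m s * (if s = a then (1 : k) else 0) := fun m a s => by
      have h := congrArg (eval fun t => if t = s then (1 : k) else 0) (hlin m a)
      simp only [lin, map_mul, map_sum, eval_C, eval_X, mul_ite, mul_one, mul_zero, Finset.sum_ite_eq',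
        Finset.mem_univ, if_true] at h
      simpa [eq_comm] using h
    have hoff : ∀ a s, a ≠ s → M a s = 0 := fun a s has => by
      have := heval s a s
      rwa [if_pos rfl, if_neg (Ne.symm has), mul_one, mul_zero] at this
    have hdiag : ∀ m a, M a a = M m m := fun m a => by
      have h := congrArg (eval fun _ => (1 : k)) (hlin m a)
      simp only [lin, map_mul, map_sum, eval_C, eval_X, mul_one] at h
      rwa [Finset.sum_eq_single a (fun s _ hs => hoff a s (Ne.symm hs)) (fun h => absurd (Finset.mem_univ a) h),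
        Finset.sum_eq_single m (fun s _ hs => hoff m s (Ne.symm hs)) (fun h => absurd (Finset.mem_univ m) h)] at h
    have hM : M = Matrix.scalar (Fin (n + 1)) (M 0 0) := by
      ext a s
      by_cases has : a = s
      · subst has; simpa using hdiag 0 a
      · simpa [has] using hoff a s has
    have hu : IsUnit (M 0 0) := isUnit_iff_ne_zero.2 fun h0 => by
      have : M = 0 := by rw [hM, h0, map_zero]
      exact g.ne_zero this
    exact ⟨hu.unit, Units.ext (by simpa using hM.symm)⟩
  · rintro _ ⟨c, rfl⟩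
    let g : GLk := Units.map (Matrix.scalar (Fin (n + 1)) : k →+* Matrix (Fin (n + 1)) (Fin (n + 1)) k).toMonoidHom c
    show phi g = 1
    refine Aut.ext (Over.OverMorphism.ext ?_)
    show lmap g = 𝟙 _
    have hl : ∀ j, lin ((g : GLk) : Matrix (Fin (n + 1)) (Fin (n + 1)) k) j = C (c : k) * X j := fun j => by
      classical
      simp [g, lin, Matrix.diagonal_apply, apply_ite (C : k → A), ite_mul]
    refine Segre.ext_of_co k (r := lmap g) (r' := 𝟙 _) ?_ fun x => ?_
    · show lmap g ≫ CohB1.ProjSpace.toSpec n k = 𝟙 _ ≫ CohB1.ProjSpace.toSpec n k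
      rw [lmap_toSpec, Category.id_comp]
    · obtain ⟨m, hm⟩ := Opens.mem_iSup.1 ((iSup_D n k).ge (show x ∈ (⊤ : (Proj 𝒢).Opens) from trivial))
      have hunit : IsUnit (C (c : k) : A) := c.isUnit.map C
      have hU' : D n k m ≤ lmap g ⁻¹ᵁ Proj.basicOpen 𝒢 (X m : A) := fun y hy => by
        show sub (g : Matrix (Fin (n + 1)) (Fin (n + 1)) k) (X m) ∉ (y : Pt n k).asHomogeneousIdeal
        rw [sub_X, hl]
        intro h
        exact hy ((Ideal.unit_mul_mem_iff_mem _ hunit).1 h)
      refine ⟨m, D n k m, hU', le_rfl, hm, fun a => sectionO_ext fun y hy => ?_⟩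
      have h3 := valO_ev_lmap g m a (D n k m) hU' y hy
      rw [hl, hl, map_mul, map_mul, mul_left_comm] at h3
      have h3' := ((hunit.map (algebraMap A (L n k y))).mul_left_cancel h3)
      refine ((isUnit_alg (show (X m : A) ∉ y.asHomogeneousIdeal from hy)).mul_right_cancel (h3'.trans ?_))
      unfold Segre.co
      rw [ProjUP.ev_apply, Scheme.Hom.appLE]
      simp only [Scheme.Hom.id_app, CategoryTheory.Functor.map_id, Category.id_comp, CommRingCat.comp_apply]
      refine Eq.trans ?_ (congrArg (· * _) (ProjUP.valO_awayToSection_dehom 𝒢 (ProjSpace.X_mem' n k m)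
        (ProjSpace.X_mem' n k a) y hy)).symm
      rw [Localization.mk_eq_mk']
      simp only [pow_one]
      exact (IsLocalization.mk'_spec _ _ _).symm

end Groth.Agent.PicPn
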