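import Groth.Agent.Lib.PicPn.TrivialFibres
import Groth.Agent.Lib.DetDeg13.Main
import Groth.Agent.Lib.CurveCoh17.Bases
import Groth.Agent.Lib.Omega12.LocFree
import Groth.Agent.Lib.AbRigid.SmoothGI
import Groth.Agent.Lib.ProjSpace.Basic
import Groth.Agent.Lib.TensorMod.Invertible
import Groth.Agent.Lib.ParaFDesc27.Descent
import Groth.Prelude.Def_Canon
import Groth.Prelude.Def_RedSub

/-!
Pluricanonical modules of smooth projective families.
-/

set_option autoImplicit false
set_option linter.style.haveILetI false
set_option backward.isDefEq.respectTransparency false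
set_option backward.isDefEq.respectTransparency.types false

universe u

open CategoryTheory CategoryTheory.Limits AlgebraicGeometry TopologicalSpace Opposite

noncomputable section

namespace Groth.Agent.PicPn

variable {X S : Scheme.{u}} {n : ℕ}

/-- The top exterior power of a finite locally free module is invertible. -/
theorem isInvertible_of_isExtPow {E L : X.Modules} (hE : FlatMod.IsFinLocFreeOfRank n E)
    (hL : ExtPow.IsExtPow n E L) : PicF.IsInvertible L := by
  obtain ⟨φ, hφ⟩ := hL
  refine (M2.isInvertible_iff_isFinLocFreeOfRank_one L).2 fun x => ?_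
  obtain ⟨D, e, hxD, he⟩ := P1Split.exists_isBas_nhd hE x
  obtain ⟨V, hV, hxV, hVD⟩ := exists_isAffineOpen_mem_and_subset (U := D) (x := x) hxD
  have hVD : V ≤ D := hVD
  let l : Γ(L, V) := (φ ⟨V, hV⟩).symm (exteriorPower.ιMulti _ n fun i => M1.mres E hVD (e i))
  have hb : P1Split.IsBas (r := 1) L V fun _ => l := P1Split.isBas_of_stalk fun y hy => by
    have hg := DetDeg13.gen_top_wedge φ hφ ⟨V, hV⟩ (he.mres hVD) y hy
    have : (fun c : Fin 1 → X.presheaf.stalk y => ∑ i, c i • (L.presheaf.germ V y hy l : L.presheaf.stalk y)) =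
        (fun r : X.presheaf.stalk y => r • Amp.gm L y hy l) ∘ fun c => c 0 := by funext c; simp [Amp.gm]
    rw [this]
    exact hg.comp (Equiv.funUnique (Fin 1) _).bijective
  have himg : V.ι ''ᵁ ⊤ = V := by simp
  obtain ⟨ψ⟩ := CurveCoh17.nonempty_iso_freeMod_of_isBas
    (CurveCoh17.isBas_restrict V.ι L (D := ⊤) (hb.mres himg.le))
  exact ⟨V, hxV, ⟨ψ.symm⟩⟩

theorem isInvertible_tensorPow_topDiff (f : X ⟶ S) [SmoothOfRelativeDimension n f] [QuasiSeparated f] {ω : X.Modules}
    (hω : Canon.IsTopDiff f n ω) (m : ℕ) : PicF.IsInvertible (CohB1.tensorPow ω m) :=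
  M2.isInvertible_tensorPow (isInvertible_of_isExtPow
    (Omega12.isFinLocFreeOfRank_receptacle_of_smooth _ (Omega12.isUniversal_dOmega (f := f)) n) hω) m

theorem isProper_of_isLocallyProjective (f : X ⟶ S) (h : RedSub.IsLocallyProjective (Over.mk f)) : IsProper f := by
  choose V hV m e he using h
  refine IsZariskiLocalAtTarget.of_iSup_eq_top (P := @IsProper) V
    (top_le_iff.1 fun s _ => Opens.mem_iSup.2 ⟨s, hV s⟩) fun s => ?_
  haveI := (he s).1
  haveI : IsProper (pullback.snd f (V s).ι) := by
    have : IsProper (e s ≫ CohB1.ProjSpaceOver.toBase (m s) (V s : Scheme.{u})) := inferInstance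
    rw [(he s).2] at this
    exact this
  have sq := (isPullback_morphismRestrict f (V s)).flip
  rw [← IsPullback.isoIsPullback_hom_snd _ _ sq (IsPullback.of_hasPullback f (V s).ι)]
  infer_instance

end Groth.Agent.PicPn

namespace Groth.Agent.PicPn

variable {X S : Scheme.{u}} (f : X ⟶ S)

theorem surjective_of_geometricallyConnected [GeometricallyConnected f] : Surjective f :=
  ⟨fun s => by
    haveI : ConnectedSpace (f.fiber s) :=
      GeometricallyConnected.geometrically_connectedSpace (K := S.residueField s) _ _ _ (IsPullback.of_hasPullback f (S.fromSpecResidueField s))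
    exact ⟨f.fiberι s (Classical.arbitrary _), (f.range_fiberι s).le ⟨_, rfl⟩⟩⟩

/-- A module whose pullback to a fibration maps isomorphically onto an invertible module is invertible. -/
theorem isInvertible_pushforward_of_isIso_counit [IsProper f] [Flat f] [Surjective f] {L : X.Modules}
    (hL : PicF.IsInvertible L) [IsIso ((Scheme.Modules.pullbackPushforwardAdjunction f).counit.app L)] :
    PicF.IsInvertible ((Scheme.Modules.pushforward f).obj L) :=
  ParaFDesc27.isInvertible_of_pullback f (M1.isQCoh_push f (Twist.isQCoh_of_isInvertible hL))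
    (Twist.isInvertible_of_iso (asIso ((Scheme.Modules.pullbackPushforwardAdjunction f).counit.app L)).symm hL)

end Groth.Agent.PicPn
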