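import Groth.Agent.Lib.LiftFib11.Unit0
import Groth.Agent.Lib.AmpleFib.CurvePush
import Groth.Agent.Lib.P1Split17.Basis
import Groth.Agent.Lib.ProjDeg17.Projection

/-!
An invertible module trivial on a fibre without `H¹` is trivial over a neighbourhood of the point.
-/

set_option autoImplicit false
set_option linter.style.haveILetI false
set_option backward.isDefEq.respectTransparency false

universe u

open CategoryTheory CategoryTheory.Limits AlgebraicGeometry TopologicalSpace Opposite Groth.Agent.ModLimH13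

noncomputable section

namespace Groth.Agent.PicPn

open Groth.Agent.M1 Groth.Agent.P1Split

variable {X S : Scheme.{u}}

/-- A local section whose inverse image generates at `z` generates near the image of `z`. -/
theorem exists_isGen_nhd_of_res' {Z : Scheme.{u}} (ι : Z ⟶ X) {L : X.Modules} (hL : PicF.IsInvertible L)
    {W : X.Opens} (σ : Γ(L, W)) {W' : Z.Opens} (e : W' ≤ ι ⁻¹ᵁ W) (hgen : Twist.IsGen _ W' (res' ι L e σ))
    {z : Z} (hz : z ∈ W') : ∃ D : X.Opens, ι z ∈ D ∧ ∃ hD : D ≤ W, Twist.IsGen L D (mres L hD σ) := by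
  obtain ⟨D, g, hxD, hg⟩ := ProjUP.exists_isGen_of_invertible hL (ι z)
  let E : X.Opens := D ⊓ W
  have hzE : ι z ∈ E := ⟨hxD, e hz⟩
  obtain ⟨a, ha⟩ := (hg E inf_le_left).2 (mres L (inf_le_right : E ≤ W) σ)
  let W'' : Z.Opens := W' ⊓ ι ⁻¹ᵁ E
  have eW : W'' ≤ ι ⁻¹ᵁ E := inf_le_right
  have hzW : z ∈ W'' := ⟨hz, hzE⟩
  let ā : Γ(Z, W'') := ι.appLE E W'' eW a
  have h1 : Twist.IsGen _ W'' (res' ι L eW (mres L (inf_le_left : E ≤ D) g)) := ((hg.mres _).pullback ι).mres eW
  have h2 : res' ι L (eW.trans (ι.preimage_mono inf_le_right)) σ =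
      ā • res' ι L eW (mres L (inf_le_left : E ≤ D) g) := by
    rw [← res'_smul, show a • mres L (inf_le_left : E ≤ D) g = mres L (inf_le_right : E ≤ W) σ from ha]
    exact (res'_mres ι L inf_le_right eW σ).symm
  have h3 : Twist.IsGen _ W'' (ā • res' ι L eW (mres L (inf_le_left : E ≤ D) g)) := by
    rw [← h2]
    have h' := hgen.mres (inf_le_left : W'' ≤ W')
    rwa [mres_res'] at h'
  obtain ⟨b, hb⟩ := (h3 W'' le_rfl).2 (res' ι L eW (mres L (inf_le_left : E ≤ D) g))
  simp only [mres_id] at hb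
  have hā : IsUnit ā := IsUnit.of_mul_eq_one b ((h1 W'' le_rfl).1 (by
    simp only [mres_id, one_smul]
    rw [mul_comm, mul_smul, hb]))
  have hu : IsUnit (X.presheaf.germ E (ι z) hzE a) := by
    refine isUnit_of_map_unit (ι.stalkMap z).hom _ ?_
    rw [Scheme.Hom.germ_stalkMap_apply ι E z hzE a]
    have h4 := hā.map (Z.presheaf.germ W'' z hzW).hom
    simp only [ā, Scheme.Hom.appLE, CommRingCat.comp_apply] at h4
    rwa [TopCat.Presheaf.germ_res_apply] at h4
  rw [← Scheme.mem_basicOpen] at hu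
  have hle : X.basicOpen a ≤ E := X.basicOpen_le a
  refine ⟨X.basicOpen a, hu, hle.trans inf_le_right, fun V hV => ?_⟩
  have hau : IsUnit (ores (hV.trans hle) a) := by
    have h5 := (RingedSpace.isUnit_res_basicOpen X.toRingedSpace a).map (ores hV).hom
    change IsUnit (ores hV (ores hle a)) at h5
    rwa [ores_ores] at h5
  have key : (fun r : Γ(X, V) => r • mres L hV (mres L (hle.trans inf_le_right) σ)) =
      (fun r : Γ(X, V) => r • mres L ((hV.trans hle).trans inf_le_left) g) ∘ fun r => r * ores (hV.trans hle) a := by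
    funext r
    have ha' : a • mres L (inf_le_left : E ≤ D) g = mres L (inf_le_right : E ≤ W) σ := ha
    have hσ := congrArg (mres L (hV.trans hle)) ha'
    rw [mres_smul] at hσ
    erw [mres_mres, mres_mres] at hσ
    simp only [Function.comp_apply, mres_mres, mul_smul]
    rw [hσ]
  rw [key]
  exact (hg V _).comp hau.unit.mulRight_bijective

/-- Every element of a residue field is a fraction of functions on an affine neighbourhood. -/
theorem exists_residue_frac {s : S} {V : S.Opens} (hV : IsAffineOpen V) (hs : s ∈ V)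
    (eW : (⊤ : (Spec (S.residueField s)).Opens) ≤ S.fromSpecResidueField s ⁻¹ᵁ V)
    (c : Γ(Spec (S.residueField s), ⊤)) :
    ∃ a b : Γ(S, V), IsUnit ((S.fromSpecResidueField s).appLE V ⊤ eW b) ∧
      (S.fromSpecResidueField s).appLE V ⊤ eW b * c = (S.fromSpecResidueField s).appLE V ⊤ eW a := by
  let g := S.fromSpecResidueField s
  letI : Algebra Γ(S, V) (S.presheaf.stalk s) := (S.presheaf.germ V s hs).hom.toAlgebra
  haveI := hV.isLocalization_stalk ⟨s, hs⟩
  let E := (Scheme.ΓSpecIso (S.residueField s)).commRingCatIsoToRingEquiv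
  have h₁ : g = Spec.map (S.evaluation V s hs) ≫ hV.fromSpec := CBC10.fromSpecResidueField_eq hs
  have hev : ∀ a : Γ(S, V), E (g.appLE V ⊤ eW a) = S.residue s (S.presheaf.germ V s hs a) := by
    intro a
    have h₂ : (⊤ : (Spec Γ(S, V)).Opens) ≤ hV.fromSpec ⁻¹ᵁ V := hV.fromSpec_preimage_self.ge
    have h₃ : g.appLE V ⊤ eW = hV.fromSpec.appLE V ⊤ h₂ ≫ (Spec.map (S.evaluation V s hs)).appTop := by
      simp only [h₁]
      rw [Scheme.Hom.appTop, Scheme.Hom.app_eq_appLE]
      exact (Scheme.Hom.appLE_comp_appLE _ _ _ _ _ _ _).symm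
    have h₄ : hV.fromSpec.appLE V ⊤ h₂ ≫ (Scheme.ΓSpecIso Γ(S, V)).hom = 𝟙 _ := by
      rw [Scheme.Hom.appLE, hV.fromSpec_app_self]
      simp only [Category.assoc]
      have hid : ∀ (u : op (⊤ : (Spec Γ(S, V)).Opens) ⟶ op ⊤), (Spec Γ(S, V)).presheaf.map u = 𝟙 _ := fun u => by
        rw [Subsingleton.elim u (𝟙 _)]
        exact CategoryTheory.Functor.map_id _ _
      rw [← Functor.map_comp_assoc, hid, Category.id_comp, Iso.inv_hom_id]
    show (Scheme.ΓSpecIso (S.residueField s)).hom (g.appLE V ⊤ eW a) = _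
    rw [h₃, CommRingCat.comp_apply, ← CommRingCat.comp_apply, Scheme.ΓSpecIso_naturality, CommRingCat.comp_apply,
      ← CommRingCat.comp_apply (hV.fromSpec.appLE V ⊤ h₂), h₄]
    rfl
  obtain ⟨z, hz⟩ := IsLocalRing.residue_surjective (R := S.presheaf.stalk s) (E c)
  obtain ⟨⟨a, b⟩, hab⟩ := IsLocalization.surj (hV.primeIdealOf ⟨s, hs⟩).asIdeal.primeCompl z
  have hb : IsUnit (S.residue s (S.presheaf.germ V s hs b.1)) :=
    (IsLocalization.map_units (S.presheaf.stalk s) b).map (IsLocalRing.residue (S.presheaf.stalk s))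
  refine ⟨a, b.1, ?_, E.injective ?_⟩
  · rw [← hev] at hb
    simpa using hb.map E.symm.toRingHom
  · rw [map_mul, hev, hev, ← hz, mul_comm]
    exact ((map_mul (IsLocalRing.residue (S.presheaf.stalk s)) z _).symm).trans
      (congrArg (IsLocalRing.residue (S.presheaf.stalk s)) hab)

/-- An invertible module trivial on a fibre has a generator over a neighbourhood, if the base change map is onto. -/
theorem exists_gen_of_surjective (f : X ⟶ S) [IsProper f]
    {L : X.Modules} (hL : PicF.IsInvertible L) {s : S} {V : S.Opens} (hV : IsAffineOpen V) (hsV : s ∈ V)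
    (hβ : Function.Surjective ((CohBC.bc0 f (S.fromSpecResidueField s) (f.fiberToSpecResidueField s) (f.fiberι s)
      (f.fiber_fac s) L).app ⊤))
    (htriv : Nonempty ((Scheme.Modules.pullback (f.fiberι s)).obj L ≅ Coh.structureModule (f.fiber s))) :
    ∃ (U : S.Opens) (σ : Γ(L, f ⁻¹ᵁ U)), s ∈ U ∧ Twist.IsGen L (f ⁻¹ᵁ U) σ := by
  haveI : Coh.IsQCoh L := Twist.isQCoh_of_isInvertible hL
  have h : IsPullback (f.fiberι s) (f.fiberToSpecResidueField s) f (S.fromSpecResidueField s) :=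
    IsPullback.of_hasPullback _ _
  let g := S.fromSpecResidueField s
  let f' := f.fiberToSpecResidueField s
  let ι := f.fiberι s
  let pF := (Scheme.Modules.pushforward f).obj L
  let T := (Scheme.Modules.pushforward f').obj ((Scheme.Modules.pullback ι).obj L)
  let β := CohBC.bc0 f g f' ι h.w L
  haveI : Subsingleton (Spec (S.residueField s)) := inferInstanceAs (Subsingleton (PrimeSpectrum (S.residueField s)))
  have eTop : ∀ {V : S.Opens}, s ∈ V → (⊤ : (Spec (S.residueField s)).Opens) ≤ g ⁻¹ᵁ V := fun {V} hV z _ => by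
    show g z ∈ V
    rw [S.fromSpecResidueField_apply]
    exact hV
  let K := Γ(Spec (S.residueField s), ⊤)
  obtain ⟨τ⟩ := htriv
  let u : Γ(T, ⊤) := τ.inv.app (f' ⁻¹ᵁ ⊤) (one _)
  have hu : Twist.IsGen ((Scheme.Modules.pullback ι).obj L) (f' ⁻¹ᵁ ⊤) u :=
    ProjDeg17.isGen_app_iso τ.symm (isGen_one _)
  haveI : Coh.IsQCoh pF := M1.isQCoh_push f (inferInstance : Coh.IsQCoh L)
  obtain ⟨e, he⟩ := exists_pullEquiv g pF (eTop hsV) hV (isAffineOpen_top _)
  letI := (g.appLE V ⊤ (eTop hsV)).hom.toAlgebra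
  have hfrac : ∀ t, ∃ (b : Γ(S, V)) (σ : Γ(pF, V)),
      IsUnit (g.appLE V ⊤ (eTop hsV) b) ∧ g.appLE V ⊤ (eTop hsV) b • e t = res' g pF (eTop hsV) σ := fun t => by
    induction t using TensorProduct.induction_on with
    | zero =>
      refine ⟨1, 0, by rw [map_one]; exact isUnit_one, ?_⟩
      rw [map_zero, smul_zero]
      exact (AddMonoidHom.mk' (res' g pF (eTop hsV)) (res'_add g pF (eTop hsV))).map_zero.symm
    | add x y hx hy =>
      obtain ⟨b₁, σ₁, hb₁, e₁⟩ := hx
      obtain ⟨b₂, σ₂, hb₂, e₂⟩ := hy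
      refine ⟨b₁ * b₂, b₂ • σ₁ + b₁ • σ₂, by rw [map_mul]; exact hb₁.mul hb₂, ?_⟩
      rw [res'_add, res'_smul, res'_smul, map_add, map_mul, smul_add, ← e₁, ← e₂, ← mul_smul, ← mul_smul,
        mul_comm (g.appLE V ⊤ (eTop hsV) b₂)]
    | tmul c z =>
      obtain ⟨a, b, hb, hab⟩ := exists_residue_frac hV hsV (eTop hsV) c
      refine ⟨b, a • z, hb, ?_⟩
      rw [he, ← mul_smul, hab, res'_smul]
  obtain ⟨y, hy⟩ := hβ u
  obtain ⟨t, rfl⟩ := e.surjective y
  obtain ⟨b, σ, hcu, hbσ⟩ := hfrac t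
  let c : K := g.appLE V ⊤ (eTop hsV) b
  have hc : c • u = β.app ⊤ (res' g pF (eTop hsV) σ) := by
    rw [← hbσ, Scheme.Modules.Hom.app_smul, hy]
  have eU : f' ⁻¹ᵁ ⊤ ≤ ι ⁻¹ᵁ (f ⁻¹ᵁ V) := CBC10.le_preimage_of_le (w := h.w) (eTop hsV)
  let σ' : Γ(L, f ⁻¹ᵁ V) := σ
  let u' : Γ((Scheme.Modules.pullback ι).obj L, f' ⁻¹ᵁ ⊤) := u
  have hgen : Twist.IsGen _ (f' ⁻¹ᵁ ⊤) (res' ι L eU σ') := by
    have hc' : res' ι L eU σ' = f'.app ⊤ c • u' := (CBC10.bc0_res' h.w L (eTop hsV) σ).symm.trans hc.symm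
    rw [hc']
    intro W hW
    have key : (fun r : Γ(f.fiber s, W) => r • mres _ hW (f'.app ⊤ c • u')) =
        (fun r : Γ(f.fiber s, W) => r • mres _ hW u') ∘ fun r => r * ores hW (f'.app ⊤ c) := by
      funext r
      simp only [Function.comp_apply, mres_smul, mul_smul]
    rw [key]
    exact (hu W hW).comp ((hcu.map (f'.app ⊤).hom).map (ores hW).hom).unit.mulRight_bijective
  let P : X.Opens → Prop := fun D => ∃ hD : D ≤ f ⁻¹ᵁ V, Twist.IsGen L D (mres L hD σ')
  let G : X.Opens := sSup {D | P D}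
  have hclosed : IsClosed (f '' (G : Set X)ᶜ) := f.isClosedMap _ G.2.isClosed_compl
  let U : S.Opens := V ⊓ ⟨_, hclosed.isOpen_compl⟩
  have hsU : s ∈ U := ⟨hsV, fun ⟨x, hxG, hfx⟩ => by
    obtain ⟨z, rfl⟩ : x ∈ Set.range ι := by
      rw [show Set.range ι = f ⁻¹' {s} from f.range_fiberι s]
      exact hfx
    obtain ⟨D, hzD, hD⟩ := exists_isGen_nhd_of_res' ι hL σ' eU hgen (z := z) trivial
    exact hxG (Opens.mem_sSup.2 ⟨D, hD, hzD⟩)⟩
  refine ⟨U, mres L (f.preimage_mono inf_le_left) σ', hsU, ?_⟩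
  refine Twist.isGen_of_stalk fun x hx => ?_
  have hxG : x ∈ G := by
    by_contra hxG
    exact hx.2 ⟨x, hxG, rfl⟩
  obtain ⟨D, ⟨hDV, hD⟩, hxD⟩ := Opens.mem_sSup.1 hxG
  have := hD.stalk hxD
  rw [germ_mres] at this
  rw [germ_mres]
  exact this

/-- An invertible module trivial on a fibre has a generator over a neighbourhood, given a base change model. -/
theorem exists_gen_of_model (f : X ⟶ S) [IsProper f]
    {L : X.Modules} (hL : PicF.IsInvertible L) {s : S} {V : S.Opens} (M : CBC10.Model f L V) (hsV : s ∈ V)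
    (hM : M.FlatCok (-1))
    (htriv : Nonempty ((Scheme.Modules.pullback (f.fiberι s)).obj L ≅ Coh.structureModule (f.fiber s))) :
    ∃ (U : S.Opens) (σ : Γ(L, f ⁻¹ᵁ U)), s ∈ U ∧ Twist.IsGen L (f ⁻¹ᵁ U) σ := by
  haveI : Coh.IsQCoh L := Twist.isQCoh_of_isInvertible hL
  have h : IsPullback (f.fiberι s) (f.fiberToSpecResidueField s) f (S.fromSpecResidueField s) :=
    IsPullback.of_hasPullback _ _
  have eTop : ∀ z : Spec (S.residueField s), S.fromSpecResidueField s z ∈ V := fun z => by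
    rw [S.fromSpecResidueField_apply]
    exact hsV
  haveI : IsIso (CohBC.bc0 f (S.fromSpecResidueField s) (f.fiberToSpecResidueField s) (f.fiberι s) h.w L) :=
    CBC10.isIso_bc0 h L fun z => ⟨V, M, eTop z, hM⟩
  exact exists_gen_of_surjective f hL M.isAffine hsV (ConcreteCategory.bijective_of_isIso _).2 htriv

/-- An invertible module with trivial fibre and no fibre `H¹` has a generator over a neighbourhood. -/
theorem exists_gen_near_fibre (f : X ⟶ S) [IsProper f] [Flat f] [LocallyOfFinitePresentation f]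
    {L : X.Modules} (hL : PicF.IsInvertible L) (s : S) (h1 : Subsingleton (CohIII.fiberH f L s 1))
    (htriv : Nonempty ((Scheme.Modules.pullback (f.fiberι s)).obj L ≅ Coh.structureModule (f.fiber s))) :
    ∃ (U : S.Opens) (σ : Γ(L, f ⁻¹ᵁ U)), s ∈ U ∧ Twist.IsGen L (f ⁻¹ᵁ U) σ := by
  have : HasInjectiveResolutions X.Modules := CohFound.hasInjectiveResolutions_modules X
  haveI : Coh.IsQCoh L := Twist.isQCoh_of_isInvertible hL
  have hfl : FlatMod.IsFlatOver f L := DPerf.isFlatOver_of_isFlat f (M := L) fun x =>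
    KFlat.Sch.isFlat_of_isFinLocFree (M2.isFinLocFree_of_isInvertible hL) x
  obtain ⟨V, M, hsV, hM, -⟩ := CBC10.exists_nhd_H1 (LimShf14.isFP_of_isInvertible hL) hfl s h1
  exact exists_gen_of_model f hL M hsV hM htriv

end Groth.Agent.PicPn
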