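import Groth.Agent.Lib.PicPn.Units
import Groth.Agent.Lib.RelProj11.Res
import Groth.Agent.Lib.Twist.Universal
import Mathlib.LinearAlgebra.Matrix.GeneralLinearGroup.Defs
import Mathlib.LinearAlgebra.Matrix.ToLinearEquiv

/-!
Linear substitutions of projective space.
-/

set_option autoImplicit false
set_option backward.isDefEq.respectTransparency false

open CategoryTheory CategoryTheory.Limits AlgebraicGeometry TopologicalSpace MvPolynomial

universe u

noncomputable section

namespace Groth.Agent.PicPn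

open Groth.Agent.Twist

variable {n : ℕ} {R : Type u} [CommRing R]

local notation "𝒢" => CohB1.polyGrading n R
local notation "A" => MvPolynomial (Fin (n + 1)) R
local notation "Mat" => Matrix (Fin (n + 1)) (Fin (n + 1)) R

/-- The linear form of the `j`-th row. -/
def lin (M : Mat) (j : Fin (n + 1)) : A := ∑ i, C (M j i) * X i

theorem lin_mem (M : Mat) (j : Fin (n + 1)) : lin M j ∈ CohB1.polyGrading n R 1 :=
  IsHomogeneous.sum _ _ _ fun i _ => by simpa using (isHomogeneous_C _ (M j i)).mul (isHomogeneous_X R i)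

/-- `Tⱼ ↦ ∑ Mⱼᵢ Tᵢ`. -/
def sub (M : Mat) : CohB1.polyGrading n R →+*ᵍ CohB1.polyGrading n R where
  __ := (aeval (R := R) (lin M)).toRingHom
  map_mem {i x} h := by
    have := IsHomogeneous.aeval (n := 1) h (lin M) (fun j => lin_mem M j)
    rw [one_mul] at this
    exact this

theorem sub_apply (M : Mat) (p : A) : sub M p = aeval (lin M) p := rfl

theorem sub_C (M : Mat) (c : R) : sub M (C c) = C c := by rw [sub_apply, aeval_C]; rfl

theorem sub_X (M : Mat) (j : Fin (n + 1)) : sub M (X j) = lin M j := by rw [sub_apply, aeval_X]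

theorem sub_one : sub (1 : Mat) = GradedRingHom.id 𝒢 := by
  refine DFunLike.ext _ _ fun p => ?_
  show aeval (lin (1 : Mat)) p = p
  have : lin (1 : Mat) = (X : Fin (n + 1) → A) := funext fun j => by
    classical
    simp [lin, Matrix.one_apply]
  rw [this, aeval_X_left_apply]

theorem sub_mul (M N : Mat) : (sub N).comp (sub M) = sub (M * N) := by
  refine DFunLike.ext _ _ fun p => ?_
  show aeval (lin N) (aeval (lin M) p) = aeval (lin (M * N)) p
  rw [← AlgHom.comp_apply]
  congr 1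
  refine MvPolynomial.algHom_ext fun j => ?_
  simp only [AlgHom.comp_apply, aeval_X, lin, map_sum, map_mul, aeval_C, Matrix.mul_apply, Finset.sum_mul,
    Finset.mul_sum, MvPolynomial.algebraMap_eq, mul_assoc]
  exact Finset.sum_comm

theorem irrelevant_le_sub (g : GL (Fin (n + 1)) R) :
    HomogeneousIdeal.irrelevant 𝒢 ≤ (HomogeneousIdeal.irrelevant 𝒢).map (sub (g : Mat)) := by
  show (HomogeneousIdeal.irrelevant 𝒢).toIdeal ≤ ((HomogeneousIdeal.irrelevant 𝒢).map (sub (g : Mat))).toIdeal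
  rw [HomogeneousIdeal.toIdeal_map]
  refine (ProjSpace.irrelevant_le_span n R).trans (Ideal.span_le.2 ?_)
  rintro _ ⟨i, rfl⟩
  have h : sub (g : Mat) (sub ((g⁻¹ : GL (Fin (n + 1)) R) : Mat) (X i)) = X i := by
    show ((sub (g : Mat)).comp (sub ((g⁻¹ : GL (Fin (n + 1)) R) : Mat))) (X i) = _
    rw [sub_mul, ← Units.val_mul, inv_mul_cancel, Units.val_one, sub_one]
    rfl
  refine (congrArg (· ∈ _) h).mp (Ideal.mem_map_of_mem _ ?_)
  exact HomogeneousIdeal.mem_irrelevant_of_mem _ Nat.one_pos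
    ((sub ((g⁻¹ : GL (Fin (n + 1)) R) : Mat)).map_mem (ProjSpace.X_mem' n R i))

/-- The linear automorphism as an endomorphism. -/
def lmap (g : GL (Fin (n + 1)) R) : CohB1.ProjSpace n R ⟶ CohB1.ProjSpace n R :=
  Proj.map (sub (g : Mat)) (irrelevant_le_sub g)

theorem map_congr {f f' : CohB1.polyGrading n R →+*ᵍ CohB1.polyGrading n R} (e : f = f')
    (hf : HomogeneousIdeal.irrelevant 𝒢 ≤ (HomogeneousIdeal.irrelevant 𝒢).map f)
    (hf' : HomogeneousIdeal.irrelevant 𝒢 ≤ (HomogeneousIdeal.irrelevant 𝒢).map f') :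
    Proj.map f hf = Proj.map f' hf' := by
  subst e
  rfl

theorem lmap_mul (g h : GL (Fin (n + 1)) R) : lmap (g * h) = lmap h ≫ lmap g := by
  refine (map_congr (e := by rw [Units.val_mul, sub_mul]) _ _).trans
    (Proj.map_comp (f := sub (g : Mat)) (g := sub (h : Mat)) (irrelevant_le_sub g) (irrelevant_le_sub h))

theorem lmap_one : lmap (1 : GL (Fin (n + 1)) R) = 𝟙 _ :=
  (map_congr (e := by rw [Units.val_one, sub_one]) _ _).trans Proj.map_id

theorem lmap_toSpec (g : GL (Fin (n + 1)) R) :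
    lmap g ≫ CohB1.ProjSpace.toSpec n R = CohB1.ProjSpace.toSpec n R := by
  show Proj.map _ _ ≫ Proj.toSpecZero _ ≫ _ = Proj.toSpecZero _ ≫ _
  rw [reassoc_of% (RelProj11.map_toSpecZero (ψ := sub (g : Mat)) (irrelevant_le_sub g)), ← Spec.map_comp]
  congr 2
  refine CommRingCat.hom_ext (RingHom.ext fun c => Subtype.ext ?_)
  exact sub_C _ c

/-- Linear automorphisms of projective space. -/
def phi : GL (Fin (n + 1)) R →* Aut (Over.mk (CohB1.ProjSpace.toSpec n R)) where
  toFun g := Over.isoMk ⟨lmap g, lmap g⁻¹, by rw [← lmap_mul, inv_mul_cancel, lmap_one]; rfl,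
    by rw [← lmap_mul, mul_inv_cancel, lmap_one]; rfl⟩ (lmap_toSpec g)
  map_one' := by
    refine Aut.ext (Over.OverMorphism.ext ?_)
    exact lmap_one
  map_mul' g h := by
    refine Aut.ext (Over.OverMorphism.ext ?_)
    exact lmap_mul g h

theorem phi_hom_left (g : GL (Fin (n + 1)) R) : (phi g).hom.left = lmap g := rfl

/-- The coordinates `Tₐ/Tₘ` pulled back by a substitution. -/
theorem valO_ev_lmap (g : GL (Fin (n + 1)) R) (m a : Fin (n + 1)) (U : (Proj 𝒢).Opens)
    (hU : U ≤ lmap g ⁻¹ᵁ Proj.basicOpen 𝒢 (X m : A)) (x : Pt n R) (hx : x ∈ U) :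
    valO (ProjUP.ev 𝒢 (ProjSpace.X_mem' n R m) (lmap g) U hU (X a)) x hx *
        algebraMap A (L n R x) (lin (g : Mat) m) = algebraMap A (L n R x) (lin (g : Mat) a) := by
  have hU' : U ≤ Proj.basicOpen 𝒢 (sub (g : Mat) (X m)) := hU
  have key : ProjUP.ev 𝒢 (ProjSpace.X_mem' n R m) (lmap g) U hU (X a) =
      Groth.Agent.M1.ores hU' (Proj.awayToSection 𝒢 (sub (g : Mat) (X m))
        (HomogeneousLocalization.Away.map (sub (g : Mat)) (X m : A)
          (EGA2.dehom 𝒢 (ProjSpace.X_mem' n R m) (X a)))) := by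
    rw [ProjUP.ev_apply, ← Scheme.Hom.appLE_map (lmap g) (U := Proj.basicOpen 𝒢 (X m : A))
      (le_refl (lmap g ⁻¹ᵁ Proj.basicOpen 𝒢 (X m : A))) (homOfLE hU).op, CommRingCat.comp_apply]
    exact congrArg (Groth.Agent.M1.ores hU') (ConcreteCategory.congr_hom
      (Proj.awayToSection_comp_appLE (sub (g : Mat)) (irrelevant_le_sub g) (ProjSpace.X_mem' n R m)) _)
  have hmem : sub (g : Mat) (X m) ∉ x.asHomogeneousIdeal := hU' hx
  rw [key, ← sub_X, ← sub_X, EGA2.dehom_of_mem 𝒢 _ (ProjSpace.X_mem' n R a), HomogeneousLocalization.Away.map_mk]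
  have hv := valO_awayToSection 𝒢 (N := 1) ((sub (g : Mat)).map_mem (ProjSpace.X_mem' n R m))
    (a := sub (g : Mat) (X a)) (by simpa using (sub (g : Mat)).map_mem (ProjSpace.X_mem' n R a)) x hmem
    (pow_notMem 𝒢 hmem 1)
  refine (congrArg (· * _) hv).trans ?_
  rw [Localization.mk_eq_mk']
  simp only [pow_one]
  exact IsLocalization.mk'_spec _ _ _

end Groth.Agent.PicPn
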