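import Groth.Agent.Lib.PicPn.Family
import Groth.Agent.Lib.RigidRel.AbSch
import Groth.Agent.Lib.CBC10.FreeAt
import Groth.Agent.Lib.AbDual21.Phi
import Groth.Agent.Lib.LimH13.ArrowModel

/-!
Invertible modules trivial on the fibres of a fibration.
-/

set_option autoImplicit false
set_option linter.style.haveILetI false
set_option backward.isDefEq.respectTransparency false

universe u

open CategoryTheory CategoryTheory.Limits AlgebraicGeometry TopologicalSpace Opposite

noncomputable section

namespace Groth.Agent.PicPn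

variable {X Y : Scheme.{u}} (f : X ⟶ Y)

/-- The counit is invertible on pullbacks of invertible modules. -/
theorem isIso_counit_of_iso_pullback (hf : ∀ V : Y.Opens, Function.Bijective (f.app V)) {L : X.Modules}
    {N : Y.Modules} (hN : PicF.IsInvertible N) (φ : L ≅ (Scheme.Modules.pullback f).obj N) :
    PicF.IsInvertible ((Scheme.Modules.pushforward f).obj L) ∧
      IsIso ((Scheme.Modules.pullbackPushforwardAdjunction f).counit.app L) := by
  let adj := Scheme.Modules.pullbackPushforwardAdjunction f
  haveI : IsIso (adj.unit.app N) := PushUnit3.isIso_unit f hf (M2.isFinLocFree_of_isInvertible hN)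
  refine ⟨M2.isInvertible_of_iso (asIso (adj.unit.app N) ≪≫ (Scheme.Modules.pushforward f).mapIso φ.symm) hN, ?_⟩
  haveI : IsIso (adj.counit.app ((Scheme.Modules.pullback f).obj N)) := by
    haveI : IsIso ((Scheme.Modules.pullback f).map (adj.unit.app N) ≫
        adj.counit.app ((Scheme.Modules.pullback f).obj N)) := by
      have h : (Scheme.Modules.pullback f).map (adj.unit.app N) ≫
          adj.counit.app ((Scheme.Modules.pullback f).obj N) = 𝟙 _ := adj.left_triangle_components N
      rw [h]
      infer_instance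
    exact IsIso.of_isIso_comp_left ((Scheme.Modules.pullback f).map (adj.unit.app N)) _
  exact (NatTrans.isIso_app_iff_of_iso adj.counit φ).2 inferInstance

theorem exists_of_gens (hf : ∀ V : Y.Opens, Function.Bijective (f.app V)) {L : X.Modules}
    (h : ∀ y : Y, ∃ (U : Y.Opens) (σ : Γ(L, f ⁻¹ᵁ U)), y ∈ U ∧ Twist.IsGen L (f ⁻¹ᵁ U) σ) :
    (∃ N : Y.Modules, PicF.IsInvertible N ∧ Nonempty ((Scheme.Modules.pullback f).obj N ≅ L)) ∧
      PicF.IsInvertible ((Scheme.Modules.pushforward f).obj L) ∧
      IsIso ((Scheme.Modules.pullbackPushforwardAdjunction f).counit.app L) := by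
  choose U σ hy hσ using h
  obtain ⟨N, hN, ⟨φ⟩⟩ := exists_descend f hf U
    (top_le_iff.1 fun x _ => Opens.mem_iSup.2 ⟨x, hy x⟩) σ hσ
  exact ⟨⟨N, hN, ⟨φ.symm⟩⟩, isIso_counit_of_iso_pullback f hf hN φ⟩

/-- `H⁰` of a trivial module on the fibre is the ring of functions on the fibre. -/
theorem fiberRank_zero_eq_finrank (L : X.Modules) (y : Y)
    (τ : (Scheme.Modules.pullback (f.fiberι y)).obj L ≅ Coh.structureModule (f.fiber y)) :
    CohIII.fiberRank f L 0 y = Module.finrank (Y.residueField y) Γ(f.fiber y, ⊤) := by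
  let M : (f.fiber y).Modules := (Scheme.Modules.pullback (f.fiberι y)).obj L
  let e : CohIII.fiberH f L y 0 ≃+ Γ(f.fiber y, ⊤) :=
    (Sheaf.H.equiv₀ (Coh.toAb M) (isTerminalTop (α := (f.fiber y).Opens))).trans
      (AddEquiv.ofBijective (τ.hom.app ⊤).hom (ConcreteCategory.bijective_of_isIso (τ.hom.app ⊤)))
  have he : ∀ (c : Y.residueField y) (x : CohIII.fiberH f L y 0),
      e (c • x) = algebraMap (Y.residueField y) Γ(f.fiber y, ⊤) c * e x := by
    intro c x
    refine (congrArg (τ.hom.app ⊤) ((Sheaf.H.equiv₀_naturality (isTerminalTop (α := (f.fiber y).Opens))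
      (Coh.smulAb M (Coh.toGlobal (f.fiberToSpecResidueField y) c)) x).symm.trans (Coh.smulAb_app _ _ _ _))).trans ?_
    refine (Scheme.Modules.Hom.app_smul τ.hom _ _).trans ?_
    show Coh.resTop _ (Opposite.op ⊤) _ * _ = _
    simp [Coh.resTop, Coh.toGlobal]
    rfl
  exact LinearEquiv.finrank_eq
    ({ e with map_smul' := fun c x => (he c x).trans (Algebra.smul_def c (e x)).symm } :
      CohIII.fiberH f L y 0 ≃ₗ[Y.residueField y] Γ(f.fiber y, ⊤))

theorem bijective_fiber_appTop_of_finrank (y : Y)
    (h : Module.finrank (Y.residueField y) Γ(f.fiber y, ⊤) = 1) :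
    Function.Bijective (f.fiberToSpecResidueField y).appTop := by
  haveI : Module.Finite (Y.residueField y) Γ(f.fiber y, ⊤) := Module.finite_of_finrank_eq_succ h
  have hb : Function.Bijective (algebraMap (Y.residueField y) Γ(f.fiber y, ⊤)) :=
    bijective_algebraMap_of_linearEquiv
      (LinearEquiv.ofFinrankEq (Y.residueField y) Γ(f.fiber y, ⊤) ((Module.finrank_self _).trans h.symm))
  exact (Function.Bijective.of_comp_iff _
    ((ConcreteCategory.isIso_iff_bijective (Scheme.ΓSpecIso (Y.residueField y)).inv).1 inferInstance)).1 hb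

/-- Modules pulled back from the base are trivial on fibres. -/
theorem fibre_trivial_of_pullback {L : X.Modules} {N : Y.Modules} (hN : PicF.IsInvertible N)
    (φ : (Scheme.Modules.pullback f).obj N ≅ L) (y : Y) :
    Nonempty ((Scheme.Modules.pullback (f.fiberι y)).obj L ≅ Coh.structureModule (f.fiber y)) := by
  have hg := Twist.isInvertible_pullback (Y.fromSpecResidueField y) hN
  haveI : Subsingleton (Spec (Y.residueField y)) := inferInstanceAs (Subsingleton (PrimeSpectrum (Y.residueField y)))
  obtain ⟨D, g, hD, hgen⟩ := ProjUP.exists_isGen_of_invertible hg (IsLocalRing.closedPoint (Y.residueField y))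
  obtain rfl : D = ⊤ := top_le_iff.1 fun x _ => by
    rwa [Subsingleton.elim x (IsLocalRing.closedPoint (Y.residueField y))]
  obtain ⟨e⟩ := Twist.nonempty_iso_of_generator _ g fun U => hgen U le_top
  exact ⟨(Scheme.Modules.pullback _).mapIso φ.symm ≪≫ (Scheme.Modules.pullbackComp _ _).app N ≪≫
    (Scheme.Modules.pullbackCongr (f.fiber_fac y)).app N ≪≫
    ((Scheme.Modules.pullbackComp _ _).app N).symm ≪≫ (Scheme.Modules.pullback _).mapIso e ≪≫
    Twist.pullbackUnitIso _⟩

/-- Functions on geometrically connected and reduced proper fibres are constants. -/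
theorem finrank_fiber_of_geometrically [IsProper f] [Flat f] [LocallyOfFinitePresentation f]
    [GeometricallyConnected f] [GeometricallyReduced f] (y : Y) :
    Module.finrank (Y.residueField y) Γ(f.fiber y, ⊤) = 1 := by
  have sq : IsPullback (f.fiberι y) (f.fiberToSpecResidueField y) f (Y.fromSpecResidueField y) :=
    IsPullback.of_hasPullback _ _
  haveI : IsProper (f.fiberToSpecResidueField y) := MorphismProperty.of_isPullback (P := @IsProper) sq inferInstance
  haveI : Flat (f.fiberToSpecResidueField y) := MorphismProperty.of_isPullback (P := @Flat) sq inferInstance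
  haveI : LocallyOfFinitePresentation (f.fiberToSpecResidueField y) :=
    MorphismProperty.of_isPullback (P := @LocallyOfFinitePresentation) sq inferInstance
  haveI : GeometricallyConnected (f.fiberToSpecResidueField y) :=
    MorphismProperty.of_isPullback (P := @GeometricallyConnected) sq inferInstance
  haveI : GeometricallyReduced (f.fiberToSpecResidueField y) :=
    MorphismProperty.of_isPullback (P := @GeometricallyReduced) sq inferInstance
  have hb : Function.Bijective (algebraMap (Y.residueField y) Γ(f.fiber y, ⊤)) :=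
    (AbDual21.bijective_appTop (f.fiberToSpecResidueField y)).comp
      ((ConcreteCategory.isIso_iff_bijective (Scheme.ΓSpecIso (Y.residueField y)).inv).1 inferInstance)
  rw [← (LinearEquiv.ofBijective (Algebra.linearMap (Y.residueField y) Γ(f.fiber y, ⊤)) hb).finrank_eq,
    Module.finrank_self]

variable [IsProper f] [Flat f] [IsLocallyNoetherian Y]

theorem bijective_app_of_h0 (h0 : ∀ y : Y, Module.finrank (Y.residueField y) Γ(f.fiber y, ⊤) = 1) (V : Y.Opens) :
    Function.Bijective (f.app V) := by
  choose U hy hU using fun y => LiftFib11.exists_nhd_isIso_app f y (bijective_fiber_appTop_of_finrank f y (h0 y))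
  refine AffGrp19.bijective_app_of_isBasis f (fun p : Σ y : Y, {V : Y.Opens // V ≤ U y} => p.2.1) ?_
    (fun p => (ConcreteCategory.isIso_iff_bijective _).1 (hU p.1 p.2.1 p.2.2)) V
  refine Opens.isBasis_iff_nbhd.2 fun {W x} hxW => ?_
  exact ⟨W ⊓ U x, ⟨⟨x, ⟨W ⊓ U x, inf_le_right⟩⟩, rfl⟩, ⟨hxW, hy x⟩, inf_le_left⟩

/-- Over a reduced base, trivial on fibres is pulled back from the base. -/
theorem exists_gen_of_trivial_fibres [IsReduced Y]
    (h0 : ∀ y : Y, Module.finrank (Y.residueField y) Γ(f.fiber y, ⊤) = 1)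
    {L : X.Modules} (hL : PicF.IsInvertible L)
    (htriv : ∀ y : Y, Nonempty ((Scheme.Modules.pullback (f.fiberι y)).obj L ≅ Coh.structureModule (f.fiber y)))
    (y : Y) : ∃ (U : Y.Opens) (σ : Γ(L, f ⁻¹ᵁ U)), y ∈ U ∧ Twist.IsGen L (f ⁻¹ᵁ U) σ := by
  haveI : LocallyOfFinitePresentation f := LimH13.locallyOfFinitePresentation_of_noetherian f
  haveI hq : Coh.IsQCoh L := Twist.isQCoh_of_isInvertible hL
  have hfl : FlatMod.IsFlatOver f L := DPerf.isFlatOver_of_isFlat f (M := L) fun x =>
    KFlat.Sch.isFlat_of_isFinLocFree (M2.isFinLocFree_of_isInvertible hL) x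
  obtain ⟨V, -, M, hyV⟩ := CBC10.exists_model_at f L (LimShf14.isFP_of_isInvertible hL) hfl (U := ⊤) (s := y) trivial
  have hlc : IsLocallyConstant (CohIII.dRank M.P 0) := by
    have e : CohIII.dRank M.P 0 = fun _ => 1 := funext fun z => by
      let hU := M.isAffine
      have hzU : hU.fromSpec z ∈ V := by rw [← SetLike.mem_coe, ← hU.range_fromSpec]; exact ⟨z, rfl⟩
      have hz : hU.primeIdealOf ⟨hU.fromSpec z, hzU⟩ = z :=
        hU.fromSpec.isOpenEmbedding.injective (hU.fromSpec_primeIdealOf _)
      have h := M.fiberRank_eq hq 0 ⟨hU.fromSpec z, hzU⟩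
      rw [hz, fiberRank_zero_eq_finrank f L _ (htriv _).some, h0] at h
      simpa using h.symm
    rw [e]
    exact IsLocallyConstant.const 1
  haveI : IsNoetherianRing Γ(Y, V) := IsLocallyNoetherian.component_noetherian ⟨V, M.isAffine⟩
  obtain ⟨-, hq'⟩ := CBC10.mem_freeLocus_of_isLocallyConstant M.P (show (-1 : ℤ) + 1 = 0 by norm_num) hlc
    (M.isAffine.primeIdealOf ⟨y, hyV⟩)
  obtain ⟨V', -, M', hyV', hflat⟩ := CBC10.exists_flat_model M hyV [-1] (by
    intro i hi
    obtain rfl := List.mem_singleton.1 hi
    exact ⟨hyV, hq'⟩)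
  exact exists_gen_of_model f hL M' hyV' (hflat _ (by simp)) (htriv y)

/-- An invertible module trivial on the closed fibre without `H¹` over a local base is trivial. -/
theorem nonempty_iso_structure_of_closedFibre {X : Scheme.{u}} {A : Type u} [CommRing A] [IsLocalRing A]
    [IsNoetherianRing A] (f : X ⟶ Spec (CommRingCat.of A)) [IsProper f] [Flat f]
    (h1 : Subsingleton (Coh.HH (pullback f (Spec.map (CommRingCat.ofHom (IsLocalRing.residue A)))) (Coh.structureModule _) 1))
    {L : X.Modules} (hL : PicF.IsInvertible L)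
    (h : Nonempty ((Scheme.Modules.pullback (pullback.fst f (Spec.map (CommRingCat.ofHom (IsLocalRing.residue A))))).obj L ≅
      Coh.structureModule _)) : Nonempty (L ≅ Coh.structureModule X) := by
  haveI : LocallyOfFinitePresentation f := LimH13.locallyOfFinitePresentation_of_noetherian f
  let s : Spec (CommRingCat.of A) := IsLocalRing.closedPoint A
  let ρ := Spec.map (CommRingCat.ofHom (IsLocalRing.residue A))
  let ψ : CommRingCat.of (IsLocalRing.ResidueField A) ≅ CommRingCat.of s.asIdeal.ResidueField :=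
    (RingEquiv.ofBijective (algebraMap (A ⧸ IsLocalRing.maximalIdeal A) (IsLocalRing.maximalIdeal A).ResidueField)
      (Ideal.bijective_algebraMap_quotient_residueField _)).toCommRingCatIso
  let e : Spec ((Spec (CommRingCat.of A)).residueField s) ⟶ Spec (CommRingCat.of (IsLocalRing.ResidueField A)) :=
    Spec.map (ψ.hom ≫ (Scheme.Spec.residueFieldIso (CommRingCat.of A) s).inv)
  have he : e ≫ ρ = (Spec (CommRingCat.of A)).fromSpecResidueField s := by
    rw [← Scheme.Spec.map_residueFieldIso_inv_eq_fromSpecResidueField, ← Spec.map_comp, ← Spec.map_comp, ← Category.assoc]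
    rfl
  let c : f.fiber s ⟶ pullback f ρ :=
    pullback.map f ((Spec (CommRingCat.of A)).fromSpecResidueField s) f ρ (𝟙 _) e (𝟙 _) (by simp) (by simp [he])
  haveI : IsIso e := inferInstance
  haveI : IsIso c := inferInstance
  have hc : c ≫ pullback.fst f ρ = f.fiberι s := (pullback.lift_fst _ _ _).trans (Category.comp_id _)
  obtain ⟨θ⟩ := h
  let τ : (Scheme.Modules.pullback (f.fiberι s)).obj L ≅ Coh.structureModule (f.fiber s) :=
    (Scheme.Modules.pullbackCongr hc).symm.app L ≪≫ ((Scheme.Modules.pullbackComp c _).app L).symm ≪≫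
      (Scheme.Modules.pullback c).mapIso θ ≪≫ Twist.pullbackUnitIso c
  have h1' : Subsingleton (CohIII.fiberH f L s 1) :=
    AffStratVan4.subsingleton_HH_congr (Twist.pullbackUnitIso c ≪≫ τ.symm) 1
      ((MumVan22.subsingleton_HH_iso_iff c (PicLoc.isInvertible_structureModule _) 1).2 h1)
  obtain ⟨U, σ, hsU, hσ⟩ := exists_gen_near_fibre f hL s h1' ⟨τ⟩
  have hU : U = ⊤ := top_le_iff.1 fun x _ => (IsLocalRing.specializes_closedPoint x).mem_open U.2 hsU
  subst hU
  exact Twist.nonempty_iso_of_generator L σ fun V => hσ V le_top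

end Groth.Agent.PicPn
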