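import Groth.Agent.Lib.Twist.GlobalProjSpace
import Groth.Agent.Lib.Twist.Frac
import Groth.Agent.Lib.Twist.Gen
import Groth.Agent.Lib.Twist.UniversalExist

/-!
Units on the standard opens of projective space over a domain are monomials.
-/

set_option autoImplicit false

open CategoryTheory CategoryTheory.Limits AlgebraicGeometry TopologicalSpace Opposite MvPolynomial

universe u

namespace Groth.Agent.PicPn

open Groth.Agent.Twist

variable (n : ℕ) (R : Type u) [CommRing R]

local notation "𝒢" => CohB1.polyGrading n R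
local notation "A" => MvPolynomial (Fin (n + 1)) R

abbrev Pt := ProjectiveSpectrum (CohB1.polyGrading n R)

abbrev L (x : Pt n R) := _root_.Twist.Loc (CohB1.polyGrading n R) x

/-- The standard open. -/
noncomputable abbrev D (i : Fin (n + 1)) : (Proj (CohB1.polyGrading n R)).Opens :=
  Proj.basicOpen (CohB1.polyGrading n R) (X i : A)

theorem iSup_D : ⨆ i, D n R i = ⊤ := ProjSpace.iSup_basicOpen n R

variable {n R}

theorem isUnit_alg {x : Pt n R} {a : A} (ha : a ∉ x.asHomogeneousIdeal) :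
    IsUnit (algebraMap A (L n R x) a) :=
  IsLocalization.map_units (L n R x) (⟨a, ha⟩ : x.asHomogeneousIdeal.toIdeal.primeCompl)

open Classical in
/-- `Tᵢ` as a unit of the local ring, where possible. -/
noncomputable def tv (x : Pt n R) (i : Fin (n + 1)) : (L n R x)ˣ :=
  if h : (X i : A) ∉ x.asHomogeneousIdeal then (isUnit_alg h).unit else 1

theorem val_tv {x : Pt n R} {i : Fin (n + 1)} (h : x ∈ D n R i) :
    (tv x i : L n R x) = algebraMap A (L n R x) (X i) := by
  rw [tv, dif_pos (show (X i : A) ∉ x.asHomogeneousIdeal from h)]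
  exact IsUnit.unit_spec _

/-- Nonzero constants. -/
noncomputable def cu (x : Pt n R) : Rˣ →* (L n R x)ˣ :=
  Units.map ((algebraMap A (L n R x)).comp C).toMonoidHom

theorem val_cu (x : Pt n R) (c : Rˣ) : (cu x c : L n R x) = algebraMap A (L n R x) (C (c : R)) := rfl

/-- The monomial `∏ Tᵢ ^ vᵢ`. -/
noncomputable def pt (x : Pt n R) (v : Fin (n + 1) → ℤ) : (L n R x)ˣ := ∏ i, tv x i ^ v i

theorem pt_add (x : Pt n R) (v w : Fin (n + 1) → ℤ) : pt x (v + w) = pt x v * pt x w := by
  simp only [pt, Pi.add_apply, zpow_add, Finset.prod_mul_distrib]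

theorem pt_zero (x : Pt n R) : pt x 0 = 1 := by simp [pt]

theorem pt_neg (x : Pt n R) (v : Fin (n + 1) → ℤ) : pt x (-v) = (pt x v)⁻¹ := by
  rw [eq_inv_iff_mul_eq_one, ← pt_add, neg_add_cancel, pt_zero]

theorem pt_sub (x : Pt n R) (v w : Fin (n + 1) → ℤ) : pt x (v - w) = pt x v * (pt x w)⁻¹ := by
  rw [sub_eq_add_neg, pt_add, pt_neg]

theorem pt_single (x : Pt n R) (i : Fin (n + 1)) (e : ℤ) : pt x (Pi.single i e) = tv x i ^ e := by
  classical
  rw [pt, Finset.prod_eq_single i (fun j _ hj => by simp [hj]) (fun h => absurd (Finset.mem_univ i) h),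
    Pi.single_eq_same]

theorem val_pt_nat (x : Pt n R) (m : Fin (n + 1) →₀ ℕ) (hm : ∀ i, m i ≠ 0 → x ∈ D n R i) :
    (pt x (fun i => (m i : ℤ)) : L n R x) = algebraMap A (L n R x) (monomial m 1) := by
  rw [monomial_eq, map_one, one_mul, Finsupp.prod_fintype _ _ (fun i => pow_zero _), map_prod, pt,
    Units.coe_prod]
  refine Finset.prod_congr rfl fun i _ => ?_
  rw [zpow_natCast, Units.val_pow_eq_pow_val, map_pow]
  by_cases h : m i = 0
  · simp [h]
  · rw [val_tv (hm i h)]

/-- The exponent vector of `(Tⱼ / Tᵢ) ^ e`. -/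
def ev (i j : Fin (n + 1)) (e : ℤ) : Fin (n + 1) → ℤ := Pi.single j e - Pi.single i e

theorem pt_ev (x : Pt n R) (i j : Fin (n + 1)) (e : ℤ) : pt x (ev i j e) = tv x j ^ e * (tv x i ^ e)⁻¹ := by
  rw [ev, pt_sub, pt_single, pt_single]

variable [IsDomain R]

variable (n R) in
/-- The generic point. -/
noncomputable def eta : Pt n R :=
  ⟨⟨⊥, Ideal.IsHomogeneous.bot _⟩, Ideal.isPrime_bot, fun h => by
    have := h (EGA2.mem_irr_of_mem (CohB1.polyGrading n R) one_pos (ProjSpace.X_mem' n R 0))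
    exact X_ne_zero (0 : Fin (n + 1)) ((Ideal.mem_bot).1 this)⟩

theorem eta_mem (i : Fin (n + 1)) : eta n R ∈ D n R i := fun h => X_ne_zero i ((Ideal.mem_bot).1 h)

theorem alg_eta_injective : Function.Injective (algebraMap A (L n R (eta n R))) :=
  IsLocalization.injective (L n R (eta n R)) (M := (eta n R).asHomogeneousIdeal.toIdeal.primeCompl)
    (fun a ha => mem_nonZeroDivisors_of_ne_zero fun h => ha (by simp [h]))

theorem expo {c c' : Rˣ} {v v' : Fin (n + 1) → ℤ}
    (h : cu (eta n R) c * pt (eta n R) v = cu (eta n R) c' * pt (eta n R) v') : c = c' ∧ v = v' := by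
  let N : ℕ := ∑ i, ((v i).natAbs + (v' i).natAbs)
  have hN : ∀ i, (v i).natAbs + (v' i).natAbs ≤ N := fun i =>
    Finset.single_le_sum (f := fun i => (v i).natAbs + (v' i).natAbs) (fun _ _ => Nat.zero_le _) (Finset.mem_univ i)
  let P : Fin (n + 1) →₀ ℕ := Finsupp.equivFunOnFinite.symm fun i => (v i + N).toNat
  let P' : Fin (n + 1) →₀ ℕ := Finsupp.equivFunOnFinite.symm fun i => (v' i + N).toNat
  have hP : (fun i => (P i : ℤ)) = v + fun _ => (N : ℤ) := funext fun i => by
    have := hN i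
    simp only [P, Finsupp.equivFunOnFinite_symm_apply_apply, Pi.add_apply]
    omega
  have hP' : (fun i => (P' i : ℤ)) = v' + fun _ => (N : ℤ) := funext fun i => by
    have := hN i
    simp only [P', Finsupp.equivFunOnFinite_symm_apply_apply, Pi.add_apply]
    omega
  have key : cu (eta n R) c * pt (eta n R) (fun i => (P i : ℤ)) =
      cu (eta n R) c' * pt (eta n R) (fun i => (P' i : ℤ)) := by
    rw [hP, hP', pt_add, pt_add, ← mul_assoc, h, mul_assoc]
  have key' := congrArg Units.val key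
  rw [Units.val_mul, Units.val_mul, val_pt_nat _ P (fun i _ => eta_mem i),
    val_pt_nat _ P' (fun i _ => eta_mem i), val_cu, val_cu, ← map_mul, ← map_mul,
    C_mul_monomial, C_mul_monomial, mul_one, mul_one] at key'
  rcases (monomial_eq_monomial_iff _ _ _ _).1 (alg_eta_injective key') with ⟨hPP, hc⟩ | ⟨hc, -⟩
  · refine ⟨Units.ext hc, add_right_cancel (b := fun _ => (N : ℤ)) ?_⟩
    rw [← hP, ← hP', hPP]
  · exact absurd hc c.ne_zero

/-- Units on `D₊(Tᵢ) ∩ D₊(Tⱼ)`. -/
theorem exists_unit_eq (i j : Fin (n + 1)) (r r' : Γ(Proj 𝒢, D n R i ⊓ D n R j)) (h : r * r' = 1) :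
    ∃ (c : Rˣ) (e : ℤ), ∀ (x : Pt n R) (hx : x ∈ D n R i ⊓ D n R j),
      valO r x hx = ((cu x c * pt x (ev i j e) : (L n R x)ˣ) : L n R x) := by
  have hij : (X i * X j : A) ∈ 𝒢 2 := SetLike.mul_mem_graded (ProjSpace.X_mem' n R i) (ProjSpace.X_mem' n R j)
  have hU : Proj.basicOpen 𝒢 (X i * X j : A) = D n R i ⊓ D n R j := Proj.basicOpen_mul 𝒢 _ _
  have hto : ∀ (s : Γ(Proj 𝒢, D n R i ⊓ D n R j)), ∃ (k : ℕ) (a : A), a.IsHomogeneous (k * 2) ∧
      ∀ (x : Pt n R) (hx : x ∈ D n R i ⊓ D n R j),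
        valO s x hx * algebraMap A (L n R x) ((X i * X j) ^ k) = algebraMap A (L n R x) a := fun s => by
    let o : Sec (𝒜 := 𝒢) 0 (D n R i ⊓ D n R j) :=
      frac 𝒢 _ (SetLike.one_mem_graded 𝒢) (SetLike.one_mem_graded 𝒢) rfl
        (fun x _ => one_notMem n R x)
    let oΓ : Γ(_root_.Twist.twist 𝒢 0, D n R i ⊓ D n R j) := o
    let so : Γ(_root_.Twist.twist 𝒢 0, D n R i ⊓ D n R j) := s • oΓ
    obtain ⟨l, k, a, ha, hl, hv⟩ := exists_eq_frac_of_pos 𝒢 two_pos hij
      (Groth.Agent.M1.mres (_root_.Twist.twist 𝒢 0) hU.le so : Sec (𝒜 := 𝒢) 0 (Proj.basicOpen 𝒢 (X i * X j : A)))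
    have hl' : l = k * 2 := by omega
    subst hl'
    refine ⟨k, a, (mem_homogeneousSubmodule _ _).1 ha, fun x hx => ?_⟩
    have hx' : x ∈ Proj.basicOpen 𝒢 (X i * X j : A) := hU.ge hx
    have e1 : valO s x hx * val (n := 0) o x hx = Localization.mk a ⟨(X i * X j) ^ k, pow_notMem 𝒢 hx' k⟩ :=
      ((val_smul s oΓ x hx).symm.trans
        (val_mres hU.le so x hx').symm).trans (hv x hx')
    have e2 : val (n := 0) o x hx = 1 := Localization.mk_one
    rw [e2, mul_one] at e1
    rw [e1, Localization.mk_eq_mk']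
    exact IsLocalization.mk'_spec _ _ _
  obtain ⟨k, a, ha, hr⟩ := hto r
  obtain ⟨l, b, hb, hr'⟩ := hto r'
  let M : Fin (n + 1) →₀ ℕ := (k + l) • (Finsupp.single i 1 + Finsupp.single j 1)
  have hM : ((X i * X j) ^ (k + l) : A) = monomial M 1 := by
    rw [show (X i : A) = monomial (Finsupp.single i 1) 1 from rfl,
      show (X j : A) = monomial (Finsupp.single j 1) 1 from rfl, monomial_mul, monomial_pow, one_mul, one_pow]
  have hab : a * b = monomial M 1 := by
    refine alg_eta_injective (n := n) (R := R) ?_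
    have hη : eta n R ∈ D n R i ⊓ D n R j := ⟨eta_mem i, eta_mem j⟩
    have hone : valO r (eta n R) hη * valO r' (eta n R) hη = 1 := by
      have h1 : (r.1 ⟨eta n R, hη⟩) * (r'.1 ⟨eta n R, hη⟩) = 1 :=
        congrArg (fun s : Γ(Proj 𝒢, D n R i ⊓ D n R j) => s.1 ⟨eta n R, hη⟩) h
      exact (HomogeneousLocalization.val_mul _ _).symm.trans
        ((congrArg HomogeneousLocalization.val h1).trans HomogeneousLocalization.val_one)
    rw [map_mul, ← hr _ hη, ← hr' _ hη, mul_mul_mul_comm, hone, one_mul, ← map_mul, ← pow_add, hM]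
  obtain ⟨m, c, hmM, hc, rfl⟩ := (dvd_monomial_iff_exists one_ne_zero).1 (Dvd.intro b hab)
  have hc' : IsUnit c := isUnit_of_dvd_one hc
  have hdeg : Finsupp.degree m = k * 2 := by
    by_contra hne
    exact hc'.ne_zero (by simpa [coeff_monomial] using ha.coeff_eq_zero hne)
  let K : Fin (n + 1) →₀ ℕ := k • (Finsupp.single i 1 + Finsupp.single j 1)
  let v : Fin (n + 1) → ℤ := fun s => (m s : ℤ) - (K s : ℤ)
  have hsupp : ∀ s, s ≠ i → s ≠ j → m s = 0 := fun s h1 h2 => by
    have := hmM s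
    simpa [M, h1, h2, Finsupp.single_apply, h1.symm, h2.symm] using this
  have hv : v = ev i j ((m j : ℤ) - k * (if i = j then 2 else 1)) := by
    rw [Finsupp.degree_eq_sum] at hdeg
    funext s
    by_cases hij' : i = j
    · subst hij'
      rw [Finset.sum_eq_single i (fun s _ hs => hsupp s hs hs) (fun h => absurd (Finset.mem_univ i) h)] at hdeg
      simp only [v, K, ev, sub_self, Pi.zero_apply, Finsupp.smul_apply, Finsupp.add_apply, smul_eq_mul]
      by_cases hs : s = i
      · subst hs; simp [hdeg]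
      · simp [hsupp s hs hs, Ne.symm hs]
    · rw [if_neg hij', mul_one]
      have hsum : m i + m j = k * 2 := by
        rw [← hdeg, ← Finset.sum_pair hij']
        exact Finset.sum_subset (Finset.subset_univ _) fun s _ hs => by
          simp only [Finset.mem_insert, Finset.mem_singleton, not_or] at hs
          exact hsupp s hs.1 hs.2
      simp only [v, K, ev, Pi.sub_apply, Finsupp.smul_apply, Finsupp.add_apply, smul_eq_mul, Pi.single_apply,
        Finsupp.single_apply]
      by_cases h1 : s = i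
      · subst h1
        simp [hij', Ne.symm hij']
        omega
      · by_cases h2 : s = j
        · subst h2
          simp [hij', Ne.symm hij']
        · simp [h1, h2, Ne.symm h1, Ne.symm h2, hsupp s h1 h2]
  refine ⟨hc'.unit, (m j : ℤ) - k * (if i = j then 2 else 1), fun x hx => ?_⟩
  rw [← hv]
  have hmem : ∀ (f : Fin (n + 1) →₀ ℕ), (∀ s, s ≠ i → s ≠ j → f s = 0) → ∀ s, f s ≠ 0 → x ∈ D n R s := by
    intro f hf s hs
    by_cases h1 : s = i
    · exact h1 ▸ hx.1
    · by_cases h2 : s = j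
      · exact h2 ▸ hx.2
      · exact absurd (hf s h1 h2) hs
  have hk : ∀ s, s ≠ i → s ≠ j → K s = 0 :=
    fun s h1 h2 => by simp [K, Ne.symm h1, Ne.symm h2]
  have hX : ((X i * X j) ^ k : A) = monomial K 1 := by
    rw [show (X i : A) = monomial (Finsupp.single i 1) 1 from rfl,
      show (X j : A) = monomial (Finsupp.single j 1) 1 from rfl, monomial_mul, monomial_pow, one_mul, one_pow]
  refine (isUnit_alg (x := x) (a := (X i * X j : A) ^ k)
    (pow_notMem 𝒢 (show (X i * X j : A) ∉ x.asHomogeneousIdeal from hU.ge hx) k)).mul_right_cancel ?_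
  rw [hr x hx, hX, ← val_pt_nat x _ (hmem _ hk), ← Units.val_mul, mul_assoc, ← pt_add,
    show v + (fun s => (K s : ℤ)) = fun s => (m s : ℤ) from funext fun s => sub_add_cancel _ _,
    Units.val_mul, val_pt_nat x m (hmem _ hsupp), val_cu, ← map_mul, C_mul_monomial, mul_one, IsUnit.unit_spec]

end Groth.Agent.PicPn
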